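import Cfsg.Agent.DegreeGraph.PPrimeDegree
import Cfsg.Agent.Blocks.Nagao
import Cfsg.Agent.Chars.Glauberman
import Cfsg.Agent.Chars.CoprimeExt

/-!
The intersection of the kernels of the characters of degree prime to `p`.
-/

namespace Cfsg.Agent.Blocks

open Cfsg
open scoped ComplexConjugate

set_option linter.style.haveILetI false
set_option linter.unusedSectionVars false
set_option linter.unusedVariables false

universe u

variable {G : Type u} [Group G] [Fintype G]

/-- A normal subgroup inside a subgroup with a nonzero character sum is in the kernel. -/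
theorem apply_eq_one_of_sum_ne_zero (χ : IrrCharacter G) (S : Subgroup G) [Fintype S]
    (hS : ∑ x : S, (χ : G → ℂ) x ≠ 0) (M : Subgroup G) [hM : M.Normal] [Fintype M] (hMS : M ≤ S)
    {m : G} (hm : m ∈ M) : (χ : G → ℂ) m = (χ : G → ℂ) 1 := by
  classical
  obtain ⟨n, ρ, htr⟩ := exists_matrixRep χ.2
  have hs := matrix_scalar_of_commute ρ (by rw [funext htr]; exact χ.2)
  set E := ∑ x : S, ρ (x : G) with hE
  have hE0 : E ≠ 0 := fun h => hS (by
    rw [← Finset.sum_congr rfl fun (x : S) _ => htr x, ← Matrix.trace_sum, ← hE, h,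
      Matrix.trace_zero])
  have hmE : ∀ a ∈ M, ρ a * E = E := by
    intro a ha
    rw [hE, Finset.mul_sum]
    exact Fintype.sum_equiv (Equiv.mulLeft (⟨a, hMS ha⟩ : S)) _ _ fun x => by
      rw [← map_mul]; rfl
  set A := ∑ a : M, ρ (a : G) with hA
  have hAc : ∀ g, A * ρ g = ρ g * A := by
    intro g
    simp only [hA, Finset.sum_mul, Finset.mul_sum, ← map_mul]
    refine Fintype.sum_equiv ((MulAut.conjNormal g⁻¹ : MulAut M).toEquiv) _ _ fun a => ?_
    congr 1
    simp [MulAut.conjNormal_apply, mul_assoc]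
  obtain ⟨c, hc⟩ := hs A hAc
  have hcE : c • E = (Nat.card M : ℂ) • E := by
    have h1 : A * E = (Nat.card M : ℂ) • E := by
      rw [hA, Finset.sum_mul, Finset.sum_congr rfl fun (a : M) _ => hmE _ a.2, Finset.sum_const,
        Finset.card_univ, ← Nat.card_eq_fintype_card, Nat.cast_smul_eq_nsmul]
    rw [← h1, hc, smul_mul_assoc, one_mul]
  have hc' : c = (Nat.card M : ℂ) := smul_left_injective ℂ hE0 hcE
  have hρ : ρ m * A = A := by
    rw [hA, Finset.mul_sum]
    exact Fintype.sum_equiv (Equiv.mulLeft (⟨m, hm⟩ : M)) _ _ fun x => by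
      rw [← map_mul]; rfl
  rw [hc, hc', mul_smul_comm, mul_one] at hρ
  have h2 : ρ m = 1 := by
    have h0 : (Nat.card M : ℂ) ≠ 0 := Nat.cast_ne_zero.2 Nat.card_pos.ne'
    exact smul_right_injective (Matrix (Fin n) (Fin n) ℂ) h0 hρ
  rw [← htr m, ← htr 1, h2, map_one]

variable {p : ℕ} [Fact p.Prime]

/-- A character of `p'`-degree of a subgroup of `p'`-index lies under one of `p'`-degree. -/
theorem exists_over_pprime (H : Subgroup G) [Fintype H] (hH : ¬ p ∣ H.index) (η : IrrCharacter H)
    (hη : ¬ p ∣ charDegree (η : H → ℂ)) :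
    ∃ χ : IrrCharacter G, ¬ p ∣ charDegree (χ : G → ℂ) ∧
      classInner (η : H → ℂ) (fun x : H => (χ : G → ℂ) x) ≠ 0 := by
  classical
  have hI : IsCharacter G (indFun H (η : H → ℂ)) := Chars.isCharacter_indFun _ (Chars.irr_isCharacter η)
  by_contra hc
  push Not at hc
  have hdeg : ∀ χ : IrrCharacter G, ∃ m d : ℕ,
      classInner (indFun H (η : H → ℂ)) (χ : G → ℂ) = m ∧ (χ : G → ℂ) 1 = d ∧
        (p ∣ m * d) := fun χ => by
    obtain ⟨m, hm⟩ := Chars.exists_classInner_eq_nat hI (Chars.irr_isCharacter χ)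
    obtain ⟨hd, _⟩ := charDegree_eq χ.2
    refine ⟨m, _, hm, hd, ?_⟩
    by_cases h : p ∣ charDegree (χ : G → ℂ)
    · exact dvd_mul_of_dvd_right h m
    · have h0 := hc χ h
      rw [← Chars.classInner_indFun _ _ (Chars.isClassFunction_irr χ), hm] at h0
      rw [Nat.cast_eq_zero.1 h0, zero_mul]; exact dvd_zero p
  choose m d hm hd hdvd using hdeg
  have hsum := congrFun (Chars.eq_sum_classInner (Chars.isClassFunction_of_isCharacter hI)) 1
  rw [Finset.sum_apply, Chars.indFun_apply_one, (charDegree_eq η.2).1] at hsum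
  simp only [Pi.smul_apply, smul_eq_mul, hm, hd] at hsum
  have h2 : H.index * charDegree (η : H → ℂ) = ∑ χ : IrrCharacter G, m χ * d χ := by
    exact_mod_cast hsum
  exact (Fact.out : p.Prime).not_dvd_mul hH hη (h2 ▸ Finset.dvd_sum fun χ _ => hdvd χ)

/-- The characters of degree prime to `p` and the fixed-point-free normal subgroup. -/
theorem pprime_ker_eq (P : Sylow p G) (N : Subgroup G) [N.Normal]
    (hN : N ⊓ Subgroup.centralizer ((P : Subgroup G) : Set G) = ⊥)
    (hmax : ∀ L : Subgroup G, L.Normal →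
      L ⊓ Subgroup.centralizer ((P : Subgroup G) : Set G) = ⊥ → L ≤ N) :
    {g : G | ∀ χ : IrrCharacter G, ¬ p ∣ charDegree (χ : G → ℂ) → (χ : G → ℂ) g = (χ : G → ℂ) 1} =
      ((N ⊔ ⁅(P : Subgroup G), (P : Subgroup G)⁆).normalCore : Set G) := by
  classical
  have hp := (Fact.out : p.Prime)
  have hD : ⁅(P : Subgroup G), (P : Subgroup G)⁆ =
      (commutator (P : Subgroup G)).map (P : Subgroup G).subtype := by
    rw [commutator_def, Subgroup.map_commutator, ← MonoidHom.range_eq_map, Subgroup.range_subtype]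
  set D := ⁅(P : Subgroup G), (P : Subgroup G)⁆ with hDdef
  have hDP : D ≤ (P : Subgroup G) := hD ▸ Subgroup.map_subtype_le _
  let K : Subgroup G :=
    ⨅ χ : {χ : IrrCharacter G // ¬ p ∣ charDegree (χ : G → ℂ)},
      Chars.charKer (Chars.irr_isCharacter χ.1)
  have hKn : K.Normal := Subgroup.normal_iInf_normal fun χ => Chars.charKer_normal _
  have hKmem : ∀ {g}, g ∈ K ↔ ∀ χ : IrrCharacter G, ¬ p ∣ charDegree (χ : G → ℂ) →
      (χ : G → ℂ) g = (χ : G → ℂ) 1 := by
    intro g
    simp only [K, Subgroup.mem_iInf, Chars.mem_charKer, Subtype.forall]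
  suffices hKeq : K = (N ⊔ D).normalCore by
    rw [← hKeq]; ext g; exact hKmem.symm
  -- `N` has order prime to `p`
  have hNp : ¬ p ∣ Nat.card N := by
    intro hdvd
    letI : MulAction (P : Subgroup G) N :=
      MulAction.compHom N ((MulAut.conjNormal (H := N)).comp (P : Subgroup G).subtype)
    obtain ⟨b, hb, hne⟩ := P.2.exists_fixed_point_of_prime_dvd_card_of_fixed_point N hdvd (a := 1)
      (fun a => by
        show MulAut.conjNormal (a : G) (1 : N) = 1
        rw [map_one])
    have hbC : (b : G) ∈ N ⊓ Subgroup.centralizer ((P : Subgroup G) : Set G) := by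
      refine ⟨b.2, Subgroup.mem_centralizer_iff.2 fun a ha => ?_⟩
      have h1 : MulAut.conjNormal (a : G) b = b := hb ⟨a, ha⟩
      have := congrArg Subtype.val h1
      rw [MulAut.conjNormal_apply] at this
      exact mul_inv_eq_iff_eq_mul.1 this
    rw [hN, Subgroup.mem_bot] at hbC
    exact hne (Subtype.ext hbC.symm)
  apply le_antisymm
  · -- every common kernel element lies in `N P'`
    haveI := hKn
    refine (Subgroup.normal_le_normalCore (H := N ⊔ D) (N := K)).2 ?_
    have hKP : K ⊓ (P : Subgroup G) ≤ (commutator (P : Subgroup G)).map (P : Subgroup G).subtype :=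
      fun x hx => ⟨⟨x, hx.2⟩,
        DegreeGraph.mem_commutator_of_forall_ker P hx.2 (hKmem.1 hx.1), rfl⟩
    have hcomp := Transfer.hasNormalPComplement_of_inf_le_frattini P K
      (hKP.trans (Subgroup.map_mono (FGS3.commutator_le_frattini P.isPGroup')))
    obtain ⟨Q, L₀, hL₀, hLQ⟩ := hcomp
    set L := L₀.map K.subtype with hL
    have hL₀c : (Nat.card L₀).Coprime p := by
      rw [Nat.coprime_comm, hp.coprime_iff_not_dvd, ← hLQ.index_eq_card]
      exact Q.not_dvd_index
    have hL₀core : L₀ = pPrimeCore p K := by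
      haveI := hL₀
      refine le_antisymm (Core.le_pPrimeCore hL₀ hL₀c) ?_
      intro x hx
      rw [← QuotientGroup.eq_one_iff]
      have h1 : orderOf (x : K ⧸ L₀) ∣ Nat.card (pPrimeCore p K) :=
        (orderOf_map_dvd (QuotientGroup.mk' L₀) x).trans (Subgroup.orderOf_dvd_natCard _ hx)
      have h2 : orderOf (x : K ⧸ L₀) ∣ Nat.card (Q : Subgroup K) := by
        rw [← hLQ.symm.index_eq_card, Subgroup.index_eq_card]
        exact orderOf_dvd_natCard _
      obtain ⟨e, he⟩ := IsPGroup.iff_card.1 Q.2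
      rw [he] at h2
      exact orderOf_eq_one_iff.1 (Nat.eq_one_of_dvd_coprimes
        ((Core.card_pPrimeCore_coprime p K).pow_right e) h1 h2)
    haveI hLn : L.Normal := by
      rw [hL, hL₀core]
      exact Core.normal_map_subtype_of_characteristic _
    have hLp : ¬ p ∣ Nat.card L := by
      rw [hL, Subgroup.card_map_of_injective K.subtype_injective]
      exact hp.coprime_iff_not_dvd.1 hL₀c.symm
    have hLN : L ≤ N := by
      refine hmax L hLn ?_
      by_contra hne
      letI := Fintype.ofFinite L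
      let φ : (P : Subgroup G) →* MulAut L := (MulAut.conjNormal (H := L)).comp (P : Subgroup G).subtype
      letI := Fintype.ofFinite (Chars.fixSub φ)
      obtain ⟨Φ, -, -⟩ := Chars.glauberman_pgroup hp P.2 φ hLp
      have hnt : Nontrivial (Chars.fixSub φ) := by
        obtain ⟨c, hc, hc1⟩ := (Subgroup.bot_or_exists_ne_one _).resolve_left hne
        refine ⟨⟨⟨c, hc.1⟩, fun a => Subtype.ext ?_⟩, 1,
          fun h => hc1 (congrArg (fun x : Chars.fixSub φ => ((x : L) : G)) h)⟩
        show ((MulAut.conjNormal (a : G) (⟨c, hc.1⟩ : L) : L) : G) = c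
        rw [MulAut.conjNormal_apply, Subgroup.mem_centralizer_iff.1 hc.2 a a.2, mul_inv_cancel_right]
      have hcard : 1 < Nat.card (IrrCharacter (Chars.fixSub φ)) := by
        rw [Chars.card_irr_eq_card_conjClasses]
        haveI : Nontrivial (ConjClasses (Chars.fixSub φ)) := by
          obtain ⟨a, ha⟩ := exists_ne (1 : Chars.fixSub φ)
          exact ⟨ConjClasses.mk a, ConjClasses.mk 1, fun h =>
            ha (isConj_one_left.1 (ConjClasses.mk_eq_mk_iff_isConj.1 h))⟩
        exact Finite.one_lt_card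
      rw [← Nat.card_congr Φ] at hcard
      haveI : Finite (IrrCharacter L) := Chars.irr_finite
      haveI : Nontrivial {χ : IrrCharacter L // Chars.InvFun φ (χ : L → ℂ)} :=
        Finite.one_lt_card_iff_nontrivial.1 hcard
      obtain ⟨⟨θ, hθinv⟩, hθne⟩ := exists_ne
        (⟨oneChar L, fun a g => rfl⟩ : {χ : IrrCharacter L // Chars.InvFun φ (χ : L → ℂ)})
      have hθ1 : θ ≠ oneChar L := fun h => hθne (Subtype.ext h)
      -- extend to `L P`
      set H : Subgroup G := L ⊔ (P : Subgroup G) with hH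
      letI := Fintype.ofFinite H
      have hHi : ¬ p ∣ H.index := fun h => P.not_dvd_index (h.trans (Subgroup.index_dvd_of_le le_sup_right))
      let L' : Subgroup H := L.subgroupOf H
      haveI : L'.Normal := inferInstanceAs ((L.subgroupOf H).Normal)
      let e : L' ≃* L := Subgroup.subgroupOfEquivOfLe le_sup_left
      have hdisj : ∀ x : G, x ∈ L → x ∈ (P : Subgroup G) → x = 1 := by
        intro x hxL hxP
        obtain ⟨j, hj⟩ := P.2 ⟨x, hxP⟩
        exact orderOf_eq_one_iff.1 (Nat.eq_one_of_dvd_coprimes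
          ((hp.coprime_iff_not_dvd.2 hLp).pow_left j)
          (orderOf_dvd_of_pow_eq_one (congrArg Subtype.val hj)) (Subgroup.orderOf_dvd_natCard _ hxL))
      have hcop : (Nat.card L').Coprime L'.index := by
        rw [Nat.card_congr e.toEquiv]
        have hfun : ∀ h : H, ∃ a : (P : Subgroup G),
            (⟨(a : G), Subgroup.mem_sup_right a.2⟩ : H)⁻¹ * h ∈ L' := by
          intro h
          obtain ⟨a, ha, b, hb, hab⟩ := Subgroup.mem_sup_of_normal_left.1 h.2
          refine ⟨⟨b, hb⟩, Subgroup.mem_subgroupOf.2 ?_⟩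
          show b⁻¹ * (h : G) ∈ L
          rw [← hab, ← mul_assoc]
          simpa using hLn.conj_mem a ha b⁻¹
        have hb : Function.Bijective (fun a : (P : Subgroup G) =>
            (QuotientGroup.mk (⟨(a : G), Subgroup.mem_sup_right a.2⟩ : H) : H ⧸ L')) := by
          refine ⟨fun a b hab => ?_, fun q => ?_⟩
          · have h1 := Subgroup.mem_subgroupOf.1 (QuotientGroup.eq.1 hab)
            exact Subtype.ext (inv_mul_eq_one.1 (hdisj _ h1 ((a⁻¹ * b).2)))
          · obtain ⟨h, rfl⟩ := QuotientGroup.mk_surjective q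
            obtain ⟨a, ha⟩ := hfun h
            exact ⟨a, QuotientGroup.eq.2 ha⟩
        rw [Subgroup.index_eq_card, ← Nat.card_eq_of_bijective _ hb, P.card_eq_multiplicity]
        exact ((hp.coprime_iff_not_dvd.2 hLp).pow_left _).symm
      have hθL : ∀ a : G, a ∈ H → ∀ x : L,
          (θ : L → ℂ) (MulAut.conjNormal a x) = (θ : L → ℂ) x := by
        intro a ha x
        obtain ⟨b, hb, c, hc, rfl⟩ := Subgroup.mem_sup_of_normal_left.1 ha
        rw [map_mul, MulAut.mul_apply]
        have h1 : MulAut.conjNormal b (MulAut.conjNormal c x) =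
            (⟨b, hb⟩ : L) * MulAut.conjNormal c x * (⟨b, hb⟩ : L)⁻¹ :=
          Subtype.ext (by simp [MulAut.conjNormal_apply])
        rw [h1, Chars.isClassFunction_irr θ _ _]
        exact hθinv ⟨c, hc⟩ x
      let θ' : IrrCharacter L' := ⟨_, Chars.isIrrCharacter_comp_equiv θ.2 e⟩
      have hinv : Chars2.inertiaSub (θ' : L' → ℂ) = ⊤ := by
        refine Chars2.inertiaSub_eq_top fun g x => ?_
        show (θ : L → ℂ) (e _) = (θ : L → ℂ) (e x)
        rw [← hθL g g.2 (e x)]
        exact congrArg _ (Subtype.ext (by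
          show _ = ((MulAut.conjNormal (g : G) (e x) : L) : G)
          rw [MulAut.conjNormal_apply]; rfl))
      obtain ⟨η, hη, hηres⟩ := Chars.extends_of_coprime L' hcop θ'.2 hinv
      have hηdeg : ¬ p ∣ charDegree η := by
        have h1 : η 1 = (θ : L → ℂ) 1 := by
          rw [← Subgroup.coe_one L', hηres 1]
          show (θ : L → ℂ) (e 1) = _
          rw [map_one]
        have h2 : charDegree η = charDegree (θ : L → ℂ) := by simp only [charDegree, h1]
        rw [h2]
        exact fun h => hLp (h.trans (charDegree_dvd θ.2))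
      obtain ⟨χ, hχ, hne'⟩ := exists_over_pprime H hHi ⟨η, hη⟩ hηdeg
      refine hne' ?_
      -- average over `L`
      rw [Chars.classInner_def]
      refine mul_eq_zero_of_right _ ?_
      letI := Fintype.ofFinite L'
      have hker : ∀ k : L', ∀ x : H, (χ : G → ℂ) (((k : H) * x : H) : G) = (χ : G → ℂ) x := by
        intro k x
        rw [Subgroup.coe_mul]
        refine Chars.apply_mul_of_mem_charKer (Chars.irr_isCharacter χ) _ ?_
        exact hKmem.1 (Subgroup.map_subtype_le L₀ k.2) χ hχ
      set f : H → ℂ := fun x => if x ∈ L' then 1 else 0 with hf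
      have hfc : IsClassFunction H f := fun x c => by
        have : c * x * c⁻¹ ∈ L' ↔ x ∈ L' :=
          ⟨fun h => by simpa [mul_assoc] using (inferInstance : L'.Normal).conj_mem _ h c⁻¹,
            fun h => (inferInstance : L'.Normal).conj_mem _ h c⟩
        simp only [hf, this]
      have hω : omega η f = 0 := by
        rw [omega, div_eq_zero_iff]
        left
        have h0 := Chars.classInner_irr_of_ne θ.2 (oneChar L).2 (fun h => hθ1 (Subtype.ext h))
        rw [Chars.classInner_def] at h0
        simp only [coe_oneChar, map_one, mul_one, mul_eq_zero, inv_eq_zero, Chars.card_ne_zero,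
          false_or] at h0
        rw [← h0]
        simp only [hf, ite_mul, one_mul, zero_mul]
        rw [← Finset.sum_filter, Finset.sum_subtype (p := fun x => x ∈ L') _ (fun x => by simp)]
        exact Fintype.sum_equiv e.toEquiv _ _ fun k => hηres k
      have hzero : ∀ x : H, ∑ k : L', η ((k : H) * x) = 0 := by
        intro x
        have := sum_mul_shift (⟨η, hη⟩ : IrrCharacter H) hfc x
        rw [hω, zero_mul] at this
        rw [← this]
        simp only [hf, ite_mul, one_mul, zero_mul]
        rw [← Finset.sum_filter, Finset.sum_subtype (p := fun x => x ∈ L') _ (fun x => by simp)]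
      have hall : (Nat.card L' : ℂ) * ∑ x : H, η x * conj ((χ : G → ℂ) x) = 0 := by
        calc (Nat.card L' : ℂ) * ∑ x : H, η x * conj ((χ : G → ℂ) x)
            = ∑ k : L', ∑ x : H, η ((k : H) * x) * conj ((χ : G → ℂ) x) := by
              rw [Nat.card_eq_fintype_card, ← Finset.card_univ, ← nsmul_eq_mul, ← Finset.sum_const]
              refine Finset.sum_congr rfl fun k _ => ?_
              refine (Fintype.sum_equiv (Equiv.mulLeft (k : H)) _ _ fun x => ?_).symm
              rw [← hker k x]; rfl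
          _ = ∑ x : H, (∑ k : L', η ((k : H) * x)) * conj ((χ : G → ℂ) x) := by
              rw [Finset.sum_comm]; simp only [Finset.sum_mul]
          _ = 0 := by simp [hzero]
      exact (mul_eq_zero.1 hall).resolve_left (Nat.cast_ne_zero.2 Nat.card_pos.ne')
    -- decompose
    intro x hx
    haveI := hL₀
    have hQeq : ∃ g : K, ∀ y ∈ (Q : Subgroup K), ((g : K) : G) * (y : G) * ((g : K) : G)⁻¹ ∈ (P : Subgroup G) := by
      have hKPi : IsPGroup p ((P : Subgroup G).subgroupOf K) := P.2.comap_subtype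
      obtain ⟨R, hR⟩ := hKPi.exists_le_sylow
      have hnd := Transfer.not_dvd_relIndex_of_normal P K
      have hPK : ((P : Subgroup G).subgroupOf K) = (R : Subgroup K) :=
        ((hKPi.toSylow hnd).3 R.2 hR).symm
      obtain ⟨g, hg⟩ := MulAction.exists_smul_eq K Q R
      refine ⟨g, fun y hy => ?_⟩
      have : g * y * g⁻¹ ∈ (R : Subgroup K) := by
        rw [← hg, Sylow.coe_subgroup_smul]
        exact ⟨y, hy, rfl⟩
      rw [← hPK] at this
      exact this
    obtain ⟨g, hg⟩ := hQeq
    obtain ⟨⟨⟨l, hl⟩, ⟨y, hy⟩⟩, hly⟩ := hLQ.2 (g⁻¹ * ⟨x, hx⟩ * g)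
    have hl' : (l : G) ∈ L := ⟨l, hl, rfl⟩
    have h1 : (g : G) * (l : G) * (g : G)⁻¹ ∈ N := (inferInstance : N.Normal).conj_mem _ (hLN hl') _
    have h2 : (g : G) * (y : G) * (g : G)⁻¹ ∈ D := by
      have := hKP ⟨K.mul_mem (K.mul_mem g.2 y.2) (K.inv_mem g.2), hg y hy⟩
      rwa [← hD] at this
    have hxe : x = ((g : G) * (l : G) * (g : G)⁻¹) * ((g : G) * (y : G) * (g : G)⁻¹) := by
      have := congrArg Subtype.val hly
      simp only [Subgroup.coe_mul, Subgroup.coe_inv] at this
      calc x = (g : G) * ((g : G)⁻¹ * x * g) * (g : G)⁻¹ := by group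
        _ = (g : G) * ((l : G) * y) * (g : G)⁻¹ := by rw [this]
        _ = _ := by group
    rw [hxe]
    exact Subgroup.mul_mem_sup h1 h2
  · intro x hx
    rw [hKmem]
    intro χ hχ
    letI := Fintype.ofFinite N
    let φ : (P : Subgroup G) →* MulAut N := (MulAut.conjNormal (H := N)).comp (P : Subgroup G).subtype
    letI := Fintype.ofFinite (Chars.fixSub φ)
    have hsumN : ∑ y : N, (χ : G → ℂ) y ≠ 0 := by
      have h1 := Chars.congrP_sum_fixSub hp P.2 φ (fun y : N => (χ : G → ℂ) y)
        (fun y => Chars.isIntegral_of_isCharacter (Chars.irr_isCharacter χ) _)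
        (fun a y => by
          show (χ : G → ℂ) ((MulAut.conjNormal (a : G) y : N) : G) = _
          rw [MulAut.conjNormal_apply, Chars.isClassFunction_irr χ])
      have hfix : ∀ y : Chars.fixSub φ, ((y : N) : G) = 1 := fun y => by
        have : ((y : N) : G) ∈ N ⊓ Subgroup.centralizer ((P : Subgroup G) : Set G) := by
          refine ⟨(y : N).2, Subgroup.mem_centralizer_iff.2 fun a ha => ?_⟩
          have h2 : MulAut.conjNormal (a : G) (y : N) = (y : N) := y.2 ⟨a, ha⟩
          have := congrArg Subtype.val h2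
          rw [MulAut.conjNormal_apply] at this
          exact mul_inv_eq_iff_eq_mul.1 this
        rwa [hN, Subgroup.mem_bot] at this
      haveI : Subsingleton (Chars.fixSub φ) := ⟨fun a b => Subtype.ext (Subtype.ext (by rw [hfix a, hfix b]))⟩
      rw [Fintype.sum_subsingleton _ (1 : Chars.fixSub φ)] at h1
      intro h0
      rw [h0] at h1
      simp only [OneMemClass.coe_one, (charDegree_eq χ.2).1] at h1
      rw [← Nat.cast_zero] at h1
      have h3 := (Chars.congrP_nat hp).1 h1
      exact hχ (Int.natCast_dvd_natCast.1 (by simpa using Int.modEq_iff_dvd.1 h3))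
    have hkerN : ∀ a ∈ N, (χ : G → ℂ) a = (χ : G → ℂ) 1 :=
      fun a ha => apply_eq_one_of_sum_ne_zero χ N hsumN N le_rfl ha
    letI := Fintype.ofFinite (N ⊔ D : Subgroup G)
    letI := Fintype.ofFinite ((N ⊔ D).normalCore : Subgroup G)
    letI := Fintype.ofFinite D
    refine apply_eq_one_of_sum_ne_zero χ (N ⊔ D) ?_ (N ⊔ D).normalCore (Subgroup.normalCore_le _) hx
    -- a linear constituent on `P` is trivial on `P'`
    have hDsum : ∑ y : D, (χ : G → ℂ) y ≠ 0 := by
      letI := Fintype.ofFinite (P : Subgroup G)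
      have hres := Chars.isCharacter_restrict (Chars.irr_isCharacter χ) (P : Subgroup G)
      obtain ⟨m, hm, hres_eq⟩ := Chars.exists_eq_sum_nsmul hres
      have h1 : (charDegree (χ : G → ℂ) : ℂ) =
          ∑ ψ : IrrCharacter (P : Subgroup G), (m ψ : ℂ) * (charDegree (ψ : ↥(P : Subgroup G) → ℂ) : ℂ) := by
        have h := congrFun hres_eq 1
        simp only [Finset.sum_apply, nsmul_eq_mul, Pi.mul_apply, Pi.natCast_apply, OneMemClass.coe_one,
          (charDegree_eq χ.2).1] at h
        rw [h]
        exact Finset.sum_congr rfl fun ψ _ => by rw [← (charDegree_eq ψ.2).1]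
      have h1' : charDegree (χ : G → ℂ) =
          ∑ ψ : IrrCharacter (P : Subgroup G), m ψ * charDegree (ψ : ↥(P : Subgroup G) → ℂ) := by
        exact_mod_cast h1
      obtain ⟨ψ, hψm, hψd⟩ : ∃ ψ : IrrCharacter (P : Subgroup G),
          m ψ ≠ 0 ∧ charDegree (ψ : ↥(P : Subgroup G) → ℂ) = 1 := by
        by_contra hno
        push Not at hno
        refine hχ (h1' ▸ Finset.dvd_sum fun ψ _ => ?_)
        by_cases h0 : m ψ = 0
        · simp [h0]
        · refine dvd_mul_of_dvd_right ?_ _
          have hdvd := charDegree_dvd ψ.2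
          rw [P.card_eq_multiplicity] at hdvd
          obtain ⟨j, -, hj⟩ := (Nat.dvd_prime_pow hp).1 hdvd
          rcases j with _ | j
          · exact absurd (by rw [hj, pow_zero]) (hno ψ h0)
          · rw [hj]; exact dvd_pow_self p j.succ_ne_zero
      obtain ⟨lam, hlam⟩ := Chars.exists_hom_of_degree_one (Chars.irr_isCharacter ψ)
        (by rw [(charDegree_eq ψ.2).1, hψd, Nat.cast_one])
      obtain ⟨n, hn⟩ := Chars.exists_classInner_eq_nat
        (Chars.isCharacter_restrict (Chars.irr_isCharacter χ) D) Chars.isCharacter_one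
      rw [Chars.classInner_def] at hn
      simp only [map_one, mul_one] at hn
      rw [inv_mul_eq_iff_eq_mul₀ Chars.card_ne_zero] at hn
      rw [hn, mul_ne_zero_iff]
      refine ⟨Chars.card_ne_zero, Nat.cast_ne_zero.2 fun hn0 => hψm ?_⟩
      rw [hn0, Nat.cast_zero, mul_zero] at hn
      -- every constituent sum over `P'` is a natural multiple
      have h3 : ∑ y : D, (χ : G → ℂ) y = ∑ φ : IrrCharacter (P : Subgroup G),
          (m φ : ℂ) * ∑ y : D, (φ : ↥(P : Subgroup G) → ℂ) ⟨y, hDP y.2⟩ := by
        simp only [Finset.mul_sum]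
        rw [Finset.sum_comm]
        refine Finset.sum_congr rfl fun y _ => ?_
        have h := congrFun hres_eq ⟨y, hDP y.2⟩
        simp only [Finset.sum_apply, nsmul_eq_mul, Pi.mul_apply, Pi.natCast_apply] at h
        exact h
      have hnat : ∀ φ : IrrCharacter (P : Subgroup G),
          ∃ k : ℕ, ∑ y : D, (φ : ↥(P : Subgroup G) → ℂ) ⟨y, hDP y.2⟩ = k := by
        intro φ
        obtain ⟨k, hk⟩ := Chars.exists_classInner_eq_nat
          (Chars.isCharacter_comp (Chars.irr_isCharacter φ) (Subgroup.inclusion hDP)) Chars.isCharacter_one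
        refine ⟨Nat.card D * k, ?_⟩
        rw [Chars.classInner_def] at hk
        simp only [map_one, mul_one] at hk
        rw [inv_mul_eq_iff_eq_mul₀ Chars.card_ne_zero] at hk
        push_cast
        exact hk
      choose k hk using hnat
      rw [hn] at h3
      simp only [hk] at h3
      have h4 : (0 : ℕ) = ∑ φ : IrrCharacter (P : Subgroup G), m φ * k φ := by exact_mod_cast h3
      have h5 := (Finset.sum_eq_zero_iff.1 h4.symm) ψ (Finset.mem_univ _)
      have hk0 : k ψ ≠ 0 := by
        intro h0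
        have hone : ∀ y : D, (ψ : ↥(P : Subgroup G) → ℂ) ⟨y, hDP y.2⟩ = 1 := by
          intro y
          rw [hlam]
          have hy : (⟨(y : G), hDP y.2⟩ : (P : Subgroup G)) ∈ commutator (P : Subgroup G) := by
            obtain ⟨z, hz, hze⟩ := Subgroup.mem_map.1 ((le_of_eq hD) y.2)
            rwa [show (⟨(y : G), hDP y.2⟩ : (P : Subgroup G)) = z from Subtype.ext hze.symm]
          simp [Abelianization.commutator_subset_ker lam hy |> MonoidHom.mem_ker.1]
        have := hk ψ
        simp only [hone, Finset.sum_const, Finset.card_univ, nsmul_eq_mul, mul_one, h0] at this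
        exact Fintype.card_ne_zero (α := D) (by exact_mod_cast this)
      exact (mul_eq_zero.1 h5).resolve_right hk0
    have hDN : ∀ a : G, a ∈ N → a ∈ D → a = 1 := by
      intro a haN haD
      obtain ⟨j, hj⟩ := P.2 ⟨a, hDP haD⟩
      exact orderOf_eq_one_iff.1 (Nat.eq_one_of_dvd_coprimes
        ((hp.coprime_iff_not_dvd.2 hNp).pow_left j)
        (orderOf_dvd_of_pow_eq_one (congrArg Subtype.val hj)) (Subgroup.orderOf_dvd_natCard _ haN))
    let F : N × D → (N ⊔ D : Subgroup G) := fun q =>
      ⟨(q.1 : G) * q.2, Subgroup.mul_mem_sup q.1.2 q.2.2⟩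
    have hF : Function.Bijective F := by
      refine ⟨fun q q' h => ?_, fun z => ?_⟩
      · have h' : (q.1 : G) * q.2 = (q'.1 : G) * q'.2 := congrArg Subtype.val h
        have h2 : (q'.1 : G)⁻¹ * q.1 = (q'.2 : G) * (q.2 : G)⁻¹ := by
          rw [inv_mul_eq_iff_eq_mul, ← mul_assoc, eq_mul_inv_iff_mul_eq, h']
        have h3 : (q'.1 : G)⁻¹ * q.1 = 1 := hDN _ (N.mul_mem (N.inv_mem q'.1.2) q.1.2)
          (h2 ▸ D.mul_mem q'.2.2 (D.inv_mem q.2.2))
        have e1 : (q.1 : G) = q'.1 := (inv_mul_eq_one.1 h3).symm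
        rw [e1] at h'
        exact Prod.ext (Subtype.ext e1) (Subtype.ext (mul_left_cancel h'))
      · obtain ⟨a, ha, b, hb, hab⟩ := Subgroup.mem_sup_of_normal_left.1 z.2
        exact ⟨(⟨a, ha⟩, ⟨b, hb⟩), Subtype.ext hab⟩
    rw [← Equiv.sum_comp (Equiv.ofBijective F hF), Fintype.sum_prod_type]
    simp only [Equiv.ofBijective_apply, F]
    rw [Finset.sum_congr rfl fun (a : N) _ => Finset.sum_congr rfl fun (b : D) _ =>
      Chars.apply_mul_of_mem_charKer (Chars.irr_isCharacter χ) _ (hkerN _ a.2)]
    rw [Finset.sum_const, Finset.card_univ, nsmul_eq_mul]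
    exact mul_ne_zero (Nat.cast_ne_zero.2 Fintype.card_ne_zero) hDsum

end Cfsg.Agent.Blocks
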