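import Cfsg.Agent.BlockChar.PairDict
import Cfsg.Agent.BlockChar.Induced
import Cfsg.Agent.BlockChar.LocalBlock
import Cfsg.Agent.BlockChar.Subsection
import Cfsg.Agent.Blocks.PPrimeKer
import Cfsg.Agent.Core.BG.Transitivity

/-!
Cores of order prime to a set of primes and the kernels of blocks along Brauer pairs.
-/

namespace Cfsg.Agent.Blocks.PairKernel

open Cfsg Cfsg.Agent Cfsg.Agent.BlockChar Cfsg.Agent.Blocks
open Cfsg.Agent.Core (IsPiNat)
open scoped MonoidAlgebra

set_option autoImplicit false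
set_option linter.unusedSectionVars false
set_option linter.style.haveILetI false
set_option linter.unusedVariables false

universe u v

variable {k : Type v} [Field k] {G : Type u} [Group G] [Fintype G] {p : ℕ}

/-! ### The averaging idempotent of a subgroup -/

open scoped Classical in
/-- The average of the elements of `K` in the group algebra. -/
noncomputable def kIdem (k : Type v) [Field k] (K : Subgroup G) : k[G] :=
  MonoidAlgebra.ofCoeff (Finsupp.equivFunOnFinite.symm fun g =>
    if g ∈ K then (Nat.card K : k)⁻¹ else 0)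

theorem coeff_kIdem (K : Subgroup G) [DecidablePred (· ∈ K)] (g : G) :
    (kIdem k K).coeff g = if g ∈ K then (Nat.card K : k)⁻¹ else 0 := by
  simp only [kIdem, MonoidAlgebra.coeff_ofCoeff, Finsupp.equivFunOnFinite_symm_apply_apply]
  split_ifs <;> rfl

theorem supportedIn_kIdem (K : Subgroup G) : SupportedIn K (kIdem k K) := fun g hg => by
  classical
  rw [coeff_kIdem, if_neg hg]

theorem fixed_kIdem {K R : Subgroup G} (h : R ≤ Subgroup.normalizer (K : Set G)) :
    Fixed R (kIdem k K) := by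
  classical
  intro u hu
  ext g
  rw [coeff_cj, coeff_kIdem, coeff_kIdem]
  refine if_congr ?_ rfl rfl
  have := Subgroup.mem_normalizer_iff.mp (h (R.inv_mem hu)) g
  rw [inv_inv] at this
  exact this.symm

theorem centralIn_kIdem {K H : Subgroup G} (hKH : K ≤ H)
    (h : H ≤ Subgroup.normalizer (K : Set G)) : CentralIn H (kIdem k K) :=
  ⟨(supportedIn_kIdem K).mono hKH, fixed_kIdem h⟩

theorem cj_kIdem (x : G) (K : Subgroup G) : cj x (kIdem k K) = kIdem k (conjS x K) := by
  classical
  ext g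
  rw [coeff_cj, coeff_kIdem, coeff_kIdem, card_conjS]
  exact if_congr mem_conjS.symm rfl rfl

theorem kIdem_left {L K : Subgroup G} (hLK : L ≤ K) (hL : (Nat.card L : k) ≠ 0) :
    kIdem k L * kIdem k K = kIdem k K := by
  classical
  ext g
  have h1 : ∀ a : G, (kIdem k L).coeff a * (kIdem k K).coeff (a⁻¹ * g) =
      if a ∈ L then (Nat.card L : k)⁻¹ * (kIdem k K).coeff g else 0 := by
    intro a
    rw [coeff_kIdem L a]
    by_cases ha : a ∈ L
    · rw [if_pos ha, if_pos ha, coeff_kIdem, coeff_kIdem]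
      congr 1
      exact if_congr (K.mul_mem_cancel_left (K.inv_mem (hLK ha))) rfl rfl
    · rw [if_neg ha, if_neg ha, zero_mul]
  rw [coeff_mul_sum, Finset.sum_congr rfl fun a _ => h1 a, ← Finset.sum_filter, Finset.sum_const,
    nsmul_eq_mul, ← Fintype.card_subtype, ← Nat.card_eq_fintype_card, ← mul_assoc,
    show Nat.card {a // a ∈ L} = Nat.card L from rfl, mul_inv_cancel₀ hL, one_mul]

theorem kIdem_right {L K : Subgroup G} (hLK : L ≤ K) (hL : (Nat.card L : k) ≠ 0) :
    kIdem k K * kIdem k L = kIdem k K := by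
  classical
  ext g
  have h1 : ∀ b : G, (kIdem k K).coeff (g * b⁻¹) * (kIdem k L).coeff b =
      if b ∈ L then (Nat.card L : k)⁻¹ * (kIdem k K).coeff g else 0 := by
    intro b
    rw [coeff_kIdem L b]
    by_cases hb : b ∈ L
    · rw [if_pos hb, if_pos hb, coeff_kIdem, coeff_kIdem, mul_comm]
      congr 1
      exact if_congr (K.mul_mem_cancel_right (K.inv_mem (hLK hb))) rfl rfl
    · rw [if_neg hb, if_neg hb, mul_zero]
  rw [coeff_mul_sum]
  rw [show ∑ a : G, (kIdem k K).coeff a * (kIdem k L).coeff (a⁻¹ * g) =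
      ∑ b : G, (kIdem k K).coeff (g * b⁻¹) * (kIdem k L).coeff b from
    Fintype.sum_equiv ((Equiv.inv G).trans (Equiv.mulRight g)) _ _ fun a => by
      simp]
  rw [Finset.sum_congr rfl fun a _ => h1 a, ← Finset.sum_filter, Finset.sum_const,
    nsmul_eq_mul, ← Fintype.card_subtype, ← Nat.card_eq_fintype_card, ← mul_assoc,
    show Nat.card {a // a ∈ L} = Nat.card L from rfl, mul_inv_cancel₀ hL, one_mul]

variable [Fact p.Prime] [CharP k p]

/-- The Brauer image of the averaging idempotent. -/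
theorem br_kIdem {R K : Subgroup G} (hR : IsPGroup p R)
    (hRK : R ≤ Subgroup.normalizer (K : Set G)) (hK : (Nat.card K : k) ≠ 0) :
    br R (kIdem k K) = kIdem k (K ⊓ Subgroup.centralizer (R : Set G)) := by
  classical
  set C := Subgroup.centralizer (R : Set G) with hC
  have hcoeff : ∀ g, (br R (kIdem k K)).coeff g =
      if g ∈ K ⊓ C then (Nat.card K : k)⁻¹ else 0 := by
    intro g
    by_cases hg : g ∈ C
    · show (trunc C (kIdem k K)).coeff g = _
      rw [coeff_trunc_of_mem _ hg, coeff_kIdem]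
      exact if_congr (by simp [Subgroup.mem_inf, hg]) rfl rfl
    · show (trunc C (kIdem k K)).coeff g = _
      rw [coeff_trunc_of_notMem _ hg, if_neg fun h => hg (Subgroup.mem_inf.mp h).2]
  have hi : br R (kIdem k K) * br R (kIdem k K) = br R (kIdem k K) :=
    br_idem hR (fixed_kIdem hRK) (kIdem_left le_rfl hK)
  have h1 := congrArg (fun z : k[G] => z.coeff 1) hi
  simp only [coeff_mul_sum, hcoeff, mul_one] at h1
  rw [if_pos (one_mem _)] at h1
  have h2 : ∑ a : G, (if a ∈ K ⊓ C then (Nat.card K : k)⁻¹ else 0) *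
      (if a⁻¹ ∈ K ⊓ C then (Nat.card K : k)⁻¹ else 0) =
      (Nat.card (K ⊓ C : Subgroup G) : k) * ((Nat.card K : k)⁻¹ * (Nat.card K : k)⁻¹) := by
    rw [Finset.sum_congr rfl (g := fun a => if a ∈ K ⊓ C then
        (Nat.card K : k)⁻¹ * (Nat.card K : k)⁻¹ else 0) fun a _ => by
        by_cases ha : a ∈ K ⊓ C
        · rw [if_pos ha, if_pos ha, if_pos (inv_mem ha)]
        · rw [if_neg ha, if_neg ha, zero_mul],
      ← Finset.sum_filter, Finset.sum_const, nsmul_eq_mul, ← Fintype.card_subtype,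
      ← Nat.card_eq_fintype_card]
  rw [h2] at h1
  have h3 : (Nat.card (K ⊓ C : Subgroup G) : k) * (Nat.card K : k)⁻¹ = 1 :=
    mul_right_cancel₀ (inv_ne_zero hK) (by rw [one_mul, mul_assoc]; exact h1)
  ext g
  rw [hcoeff, coeff_kIdem, eq_inv_of_mul_eq_one_right h3]

/-! ### Cores -/

variable {π : Set ℕ}

/-- The largest normal subgroup of order prime to `π`. -/
abbrev coreOf (π : Set ℕ) (X : Subgroup G) : Subgroup G := piCoreOf {q | q ∉ π} X

theorem card_ne_zero_of_pi (hpπ : p ∈ π) {K : Subgroup G}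
    (hK : IsPiNat {q | q ∉ π} (Nat.card K)) : (Nat.card K : k) ≠ 0 := fun h =>
  hK p Fact.out ((CharP.cast_eq_zero_iff k p _).mp h) hpπ

theorem isPiNat_coreOf (π : Set ℕ) (X : Subgroup G) :
    IsPiNat {q | q ∉ π} (Nat.card (coreOf π X)) := Core.BG.isPiNat_piCoreOf _ X

theorem isPiNat_orderOf {K : Subgroup G} (hK : IsPiNat {q | q ∉ π} (Nat.card K)) {x : G}
    (hx : x ∈ K) : IsPiNat {q | q ∉ π} (orderOf x) := fun q hq hd =>
  hK q hq (hd.trans (Subgroup.orderOf_dvd_natCard K hx))

theorem inf_centralizer_le_core {H K R : Subgroup G} (hHK : H ≤ Subgroup.normalizer (K : Set G))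
    (hK : IsPiNat {q | q ∉ π} (Nat.card K)) (hC : Subgroup.centralizer (R : Set G) ≤ H) :
    K ⊓ Subgroup.centralizer (R : Set G) ≤ coreOf π (Subgroup.centralizer (R : Set G)) := by
  refine Core.BG.le_piCoreOf inf_le_right ?_ fun q hq hd =>
    hK q hq (hd.trans (Subgroup.card_dvd_of_le inf_le_left))
  intro x hx
  refine Subgroup.mem_normalizer_iff.mpr fun y => ?_
  simp only [Subgroup.mem_inf]
  rw [Subgroup.mem_normalizer_iff.mp (hHK (hC hx)) y,
    Subgroup.mem_normalizer_iff.mp (Subgroup.le_normalizer hx) y]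

theorem conjS_coreOf_le (π : Set ℕ) (x : G) (X : Subgroup G) :
    conjS x (coreOf π X) ≤ coreOf π (conjS x X) := by
  refine Core.BG.le_piCoreOf (conjS_le (Core.BG.piCoreOf_le _ X)) ?_ ?_
  · intro u hu
    refine mem_normalizer_of_conjS_eq ?_
    have h : x⁻¹ * u * x ∈ Subgroup.normalizer (coreOf π X : Set G) :=
      Core.BG.le_normalizer_piCoreOf _ X (mem_conjS.mp hu)
    rw [← conjS_mul, show u * x = x * (x⁻¹ * u * x) by group, conjS_mul,
      conjS_eq_self_of_mem_normalizer h]
  · rw [card_conjS]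
    exact isPiNat_coreOf π X

theorem conjS_coreOf (π : Set ℕ) (x : G) (X : Subgroup G) :
    conjS x (coreOf π X) = coreOf π (conjS x X) := by
  refine le_antisymm (conjS_coreOf_le π x X) ?_
  have h := conjS_le (x := x) (conjS_coreOf_le π x⁻¹ (conjS x X))
  rwa [conjS_conjS_inv, conjS_inv_conjS] at h

/-- The core of the centraliser acts trivially on the block. -/
def Good (π : Set ℕ) (Q : Subgroup G) (f : k[G]) : Prop :=
  f * kIdem k (coreOf π (Subgroup.centralizer (Q : Set G))) = f

/-- The centraliser has a normal complement of order prime to `π`. -/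
def Hall (π : Set ℕ) (Q : Subgroup G) : Prop :=
  ∀ x ∈ Subgroup.centralizer (Q : Set G), (∀ q : ℕ, q.Prime → q ∣ orderOf x → q ∉ π) →
    x ∈ coreOf π (Subgroup.centralizer (Q : Set G))

theorem Good.cj {Q : Subgroup G} {f : k[G]} (h : Good π Q f) (x : G) :
    Good π (conjS x Q) (cj x f) := by
  unfold Good at h ⊢
  rw [← conjS_centralizer, ← conjS_coreOf, ← cj_kIdem, ← map_mul, h]

theorem Hall.cj {Q : Subgroup G} (h : Hall π Q) (x : G) : Hall π (conjS x Q) := by
  intro y hy hq
  rw [← conjS_centralizer] at hy ⊢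
  rw [← conjS_coreOf, mem_conjS]
  refine h _ (mem_conjS.mp hy) fun q hq1 hq2 => hq q hq1 ?_
  rwa [show x⁻¹ * y * x = (MulAut.conj x⁻¹).toMonoidHom y by simp ,
    orderOf_injective (MulAut.conj x⁻¹).toMonoidHom (MulAut.conj x⁻¹).injective y] at hq2

/-- A block of a larger group which meets a good pair is itself good. -/
theorem le_of_occ (hpπ : p ∈ π) {H R K : Subgroup G} {f g : k[G]} (hf : IsBlk H f) (hKH : K ≤ H)
    (hHK : H ≤ Subgroup.normalizer (K : Set G)) (hK : IsPiNat {q | q ∉ π} (Nat.card K))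
    (hC : Subgroup.centralizer (R : Set G) ≤ H) (hR : IsPGroup p R)
    (hRK : R ≤ Subgroup.normalizer (K : Set G)) (hfix : Fixed R f)
    (hg : IsBlk (Subgroup.centralizer (R : Set G)) g) (hocc : br R f * g = g)
    (hgood : Good π R g) : f * kIdem k K = f := by
  have hK0 : (Nat.card K : k) ≠ 0 := card_ne_zero_of_pi hpπ hK
  have hcomm : f * kIdem k K = kIdem k K * f :=
    hf.central.comm ((supportedIn_kIdem K).mono hKH)
  rcases hf.prim _ (centralIn_kIdem hKH hHK) (kIdem_left le_rfl hK0) with h | h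
  · exfalso
    apply hg.ne_zero
    set O := coreOf π (Subgroup.centralizer (R : Set G)) with hO
    have hle : K ⊓ Subgroup.centralizer (R : Set G) ≤ O := inf_centralizer_le_core hHK hK hC
    have hL0 : (Nat.card (K ⊓ Subgroup.centralizer (R : Set G) : Subgroup G) : k) ≠ 0 :=
      card_ne_zero_of_pi hpπ fun q hq hd => hK q hq (hd.trans (Subgroup.card_dvd_of_le inf_le_left))
    have hOg : kIdem k O * g = g := by
      rw [← hg.central.comm ((supportedIn_kIdem O).mono (Core.BG.piCoreOf_le _ _))]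
      exact hgood
    have h1 := br_zero_mul hR (fixed_kIdem hRK) hfix h
    rw [br_kIdem hR hRK hK0] at h1
    calc g = kIdem k (K ⊓ Subgroup.centralizer (R : Set G)) * g := by
          conv_rhs => rw [← hOg, ← mul_assoc, kIdem_left hle hL0, hOg]
      _ = kIdem k (K ⊓ Subgroup.centralizer (R : Set G)) * (br R f * g) := by rw [hocc]
      _ = 0 := by rw [← mul_assoc, h1, zero_mul]
  · rw [hcomm, h]

theorem core_le_normalizer (π : Set ℕ) {Q R : Subgroup G}
    (h : R ≤ Subgroup.normalizer (Q : Set G)) :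
    R ≤ Subgroup.normalizer (coreOf π (Subgroup.centralizer (Q : Set G)) : Set G) :=
  h.trans ((normalizer_le_normalizer_centralizer Q).trans
    (Core.BG.normalizer_le_normalizer_piCoreOf _ _))

theorem good_of_nstep (hpπ : p ∈ π) {a b : Subgroup G × k[G]} (h : NStep p a b)
    (hb : Good π b.1 b.2) : Good π a.1 a.2 :=
  le_of_occ hpπ h.left.blk (Core.BG.piCoreOf_le _ _) (Core.BG.le_normalizer_piCoreOf _ _)
    (isPiNat_coreOf π _) (centralizer_anti h.le) h.right.pgroup (core_le_normalizer π h.norm)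
    h.stable h.right.blk h.occ hb

theorem good_of_pairLE (hpπ : p ∈ π) {a b : Subgroup G × k[G]} (h : PairLE p a b)
    (hb : Good π b.1 b.2) : Good π a.1 a.2 := by
  induction h with
  | refl => exact hb
  | tail _ hs ih => exact ih (good_of_nstep hpπ hs hb)

theorem up_of_nstep (hpπ : p ∈ π) {a b : Subgroup G × k[G]} (h : NStep p a b)
    (hH : Hall π a.1) (ha : Good π a.1 a.2) : Hall π b.1 ∧ Good π b.1 b.2 := by
  set C := Subgroup.centralizer (a.1 : Set G) with hC
  set D := Subgroup.centralizer (b.1 : Set G) with hD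
  have hDC : D ≤ C := centralizer_anti h.le
  have hK0 : (Nat.card (coreOf π C) : k) ≠ 0 := card_ne_zero_of_pi hpπ (isPiNat_coreOf π C)
  have heq : coreOf π C ⊓ D = coreOf π D := by
    refine le_antisymm (inf_centralizer_le_core (Core.BG.le_normalizer_piCoreOf _ _)
      (isPiNat_coreOf π C) hDC) fun x hx => ?_
    have hxD : x ∈ D := Core.BG.piCoreOf_le _ _ hx
    exact ⟨hH x (hDC hxD) (isPiNat_orderOf (isPiNat_coreOf π D) hx), hxD⟩
  refine ⟨fun x hx hq => ?_, ?_⟩
  · show x ∈ coreOf π D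
    rw [← heq]
    exact ⟨hH x (hDC hx) hq, hx⟩
  · show b.2 * kIdem k (coreOf π D) = b.2
    have hRK := core_le_normalizer π h.norm
    have h1 : kIdem k (coreOf π C) * a.2 = a.2 := by
      rw [← h.left.blk.central.comm ((supportedIn_kIdem _).mono (Core.BG.piCoreOf_le _ _))]
      exact ha
    have h2 := congrArg (br b.1) h1
    rw [br_mul h.right.pgroup (fixed_kIdem hRK) h.stable,
      br_kIdem h.right.pgroup hRK hK0, heq] at h2
    rw [h.right.blk.central.comm ((supportedIn_kIdem _).mono (Core.BG.piCoreOf_le _ _))]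
    conv_lhs => rw [← h.occ, ← mul_assoc, h2]
    exact h.occ

theorem up_of_pairLE (hpπ : p ∈ π) {a b : Subgroup G × k[G]} (h : PairLE p a b)
    (hH : Hall π a.1) (ha : Good π a.1 a.2) : Hall π b.1 ∧ Good π b.1 b.2 := by
  induction h with
  | refl => exact ⟨hH, ha⟩
  | tail _ hs ih => exact up_of_nstep hpπ hs ih.1 ih.2

/-! ### Blocks of characters -/

section chars

variable {M : Ideal AlgInt} [M.IsMaximal]

theorem res_natCast (n : ℕ) : res M (n : ℂ) = (n : Res M) := by
  rw [← map_natCast (Ideal.Quotient.mk M) n, ← res_algInt]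
  congr 1

/-- The averaging idempotent acts trivially on a block exactly if the subgroup is in its kernel. -/
theorem mul_kIdem_iff (hpM : (p : AlgInt) ∈ M) {H K : Subgroup G}
    {c : Set (IrrCharacter H)} (hc : IsPBlock M c) (hKH : K ≤ H)
    (hHK : H ≤ Subgroup.normalizer (K : Set G)) (hK : ¬ p ∣ Nat.card K) :
    idemS M c * kIdem (Res M) K = idemS M c ↔
      ∀ ξ ∈ c, ∀ h : H, (h : G) ∈ K → (ξ : H → ℂ) h = (ξ : H → ℂ) 1 := by
  classical
  haveI := charP_res (p := p) hpM
  set φ : H → ℂ := fun h => if (h : G) ∈ K then (Nat.card K : ℂ)⁻¹ else 0 with hφ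
  have hφc : IsClassFunction H φ := fun g h => by
    refine if_congr ?_ rfl rfl
    simp only [Subgroup.coe_mul, Subgroup.coe_inv]
    exact (Subgroup.mem_normalizer_iff.mp (hHK h.2) (g : G)).symm
  have hφR : RFun M φ := fun h => by
    show MemLocalRing M (if (h : G) ∈ K then (Nat.card K : ℂ)⁻¹ else 0)
    split_ifs
    · exact memR_inv_natCast hpM hK
    · exact memR_zero
  have hK0 : (Nat.card K : Res M) ≠ 0 := fun h => hK ((CharP.cast_eq_zero_iff (Res M) p _).mp h)
  have hred : red M H.subtype φ = kIdem (Res M) K := by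
    refine red_ext H.subtype_injective ?_ fun x => ?_
    · rw [Subgroup.range_subtype]
      exact (supportedIn_kIdem K).mono hKH
    · rw [coeff_kIdem]
      show (if (x : G) ∈ K then _ else _) = res M (if (x : G) ∈ K then _ else _)
      split_ifs
      · symm
        refine eq_inv_of_mul_eq_one_right ?_
        rw [← res_natCast, ← res_mul (memR_natCast _) (memR_inv_natCast hpM hK),
          mul_inv_cancel₀ (Nat.cast_ne_zero.2 Nat.card_pos.ne'), res_one]
      · rw [res_zero]
  have hb : IsBlk H (idemS M c) := isBlk_idemS hpM hc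
  rw [hb.central.comm ((supportedIn_kIdem K).mono hKH)]
  have hiff : ∀ ξ : IrrCharacter H, ξ ∈ c → (kIdem (Res M) K * idemS M c = idemS M c ↔
      MemLocalIdeal M (omega (ξ : H → ℂ) φ - 1)) := fun ξ hξ => by
    rw [← hred]
    refine red_mul_idem_iff H.subtype_injective hpM hc hξ hφc hφR ?_
    rw [hred]
    exact kIdem_left le_rfl hK0
  have hom : ∀ ξ : IrrCharacter H, omega (ξ : H → ℂ) φ =
      ((Nat.card K : ℂ)⁻¹ * ∑ x : K.subgroupOf H, (ξ : H → ℂ) x) / (ξ : H → ℂ) 1 := fun ξ => by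
    rw [omega]
    congr 1
    simp only [hφ, ite_mul, zero_mul]
    rw [← Finset.sum_filter, Finset.mul_sum]
    exact Finset.sum_subtype _ (fun h => by simp [Subgroup.mem_subgroupOf])
      fun h : H => (Nat.card K : ℂ)⁻¹ * (ξ : H → ℂ) h
  constructor
  · intro h ξ hξ x hx
    haveI : (K.subgroupOf H).Normal := Subgroup.normal_subgroupOf_of_le_normalizer hHK
    refine apply_eq_one_of_sum_ne_zero ξ (K.subgroupOf H) ?_ (K.subgroupOf H) le_rfl
      (Subgroup.mem_subgroupOf.mpr hx)
    intro h0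
    have h1 := (hiff ξ hξ).mp h
    rw [hom, h0, mul_zero, zero_div, zero_sub] at h1
    exact not_memI_one (M := M) (by simpa using memI_neg h1)
  · intro h
    obtain ⟨ξ, hξ⟩ := block_nonempty hc
    refine (hiff ξ hξ).mpr ?_
    rw [hom, Finset.sum_congr rfl fun (x : K.subgroupOf H) _ =>
      h ξ hξ x (Subgroup.mem_subgroupOf.mp x.2), Finset.sum_const, Finset.card_univ,
      nsmul_eq_mul, ← Nat.card_eq_fintype_card,
      Nat.card_congr (Subgroup.subgroupOfEquivOfLe hKH).toEquiv, ← mul_assoc,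
      inv_mul_cancel₀ (Nat.cast_ne_zero.2 Nat.card_pos.ne'), one_mul,
      div_self (Chars.irr_apply_one_ne_zero ξ.2), sub_self]
    exact memI_zero

theorem not_dvd_coreOf (hpπ : p ∈ π) (X : Subgroup G) : ¬ p ∣ Nat.card (coreOf π X) := fun h =>
  isPiNat_coreOf π X p Fact.out h hpπ

/-- The block of the normaliser of a defect group gives a maximal pair. -/
theorem exists_maxPair_normalizer (hpM : (p : AlgInt) ∈ M) {B : Set (IrrCharacter G)}
    (hB : IsPBlock M B) {D : Subgroup G} (hBD : IsDefectGroup p M B D)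
    {B₁ : Set (IrrCharacter (Subgroup.normalizer (D : Set G)))}
    (hB₁ : IsInducedBlock M (Subgroup.normalizer (D : Set G)) B₁ B)
    (hB₁D : IsDefectGroup p M B₁ (D.subgroupOf (Subgroup.normalizer (D : Set G)))) :
    ∃ e : (Res M)[G], IsMaxPair p D e ∧ OfBlock (idemG M B) D e ∧
      br D (idemS M B₁) * e = e := by
  haveI := charP_res (p := p) hpM
  have hbG := isBlk_idemG hpM hB
  have hdef := (isDefectGroup_iff_idemG hpM hB D).mp hBD
  have hc : IsBlk (Subgroup.normalizer (D : Set G)) (idemS M B₁) := isBlk_idemS hpM hB₁.1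
  have hd1 := (isDefectGroup_subgroupOf_iff hpM Subgroup.le_normalizer hB₁.1).mp hB₁D
  obtain ⟨e, he, ho⟩ := exists_pair_of_br_ne_zero hc Subgroup.le_normalizer hd1.pgroup
    (centralizer_le_normalizer D) hd1.ne_zero
  have hob : OfBlock (idemG M B) D e :=
    (inducesIn_iff_ofBlock le_top he Subgroup.le_normalizer (centralizer_le_normalizer D) hc ho
      hbG).mp ((isInducedBlock_iff hpM hB₁.1 hB).mp hB₁)
  exact ⟨e, isMaxPair_of_isDef hbG hdef he hob, hob, ho⟩

/-- If the core of the normaliser of the defect group is in the kernel of the correspondent, then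
every pair of the block is good. -/
theorem good_of_kernel (hpM : (p : AlgInt) ∈ M) (hpπ : p ∈ π) {B : Set (IrrCharacter G)}
    (hB : IsPBlock M B) {D : Subgroup G} (hBD : IsDefectGroup p M B D)
    {B₁ : Set (IrrCharacter (Subgroup.normalizer (D : Set G)))}
    (hB₁ : IsInducedBlock M (Subgroup.normalizer (D : Set G)) B₁ B)
    (hB₁D : IsDefectGroup p M B₁ (D.subgroupOf (Subgroup.normalizer (D : Set G))))
    (hker : ∀ n : Subgroup.normalizer (D : Set G),
      n ∈ piCore {q | q ∉ π} (Subgroup.normalizer (D : Set G)) → n ∈ blockKer B₁)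
    {Q : Subgroup G} {f : (Res M)[G]} (hQ : IsPair p Q f) (hQo : OfBlock (idemG M B) Q f) :
    Good π Q f := by
  haveI := charP_res (p := p) hpM
  obtain ⟨e, hmax, hob, hoc⟩ := exists_maxPair_normalizer hpM hB hBD hB₁ hB₁D
  have hCN : Subgroup.centralizer (D : Set G) ≤ (Subgroup.normalizer (D : Set G)) := centralizer_le_normalizer D
  have hc : IsBlk (Subgroup.normalizer (D : Set G)) (idemS M B₁) := isBlk_idemS hpM hB₁.1
  have hcK : idemS M B₁ * kIdem (Res M) (coreOf π (Subgroup.normalizer (D : Set G))) = idemS M B₁ := by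
    refine (mul_kIdem_iff hpM hB₁.1 (Core.BG.piCoreOf_le _ _)
      (Core.BG.le_normalizer_piCoreOf _ _) (not_dvd_coreOf hpπ (Subgroup.normalizer (D : Set G)))).mpr fun ξ hξ h hh => ?_
    obtain ⟨z, hz, hzh⟩ := hh
    obtain rfl : z = h := Subtype.ext hzh
    exact hker z hz ξ hξ
  have hgood : Good π D e := by
    set O := coreOf π (Subgroup.centralizer (D : Set G)) with hO
    have hNO : (Subgroup.normalizer (D : Set G)) ≤ Subgroup.normalizer (O : Set G) := core_le_normalizer π le_rfl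
    have hON : O ≤ coreOf π (Subgroup.normalizer (D : Set G)) :=
      Core.BG.le_piCoreOf ((Core.BG.piCoreOf_le _ _).trans hCN) hNO (isPiNat_coreOf π _)
    have hbr : br D (idemS M B₁) = idemS M B₁ :=
      br_blk_eq_self hmax.pair.pgroup Subgroup.le_normalizer le_rfl hc
    rw [hbr] at hoc
    have hcO : idemS M B₁ * kIdem (Res M) O = idemS M B₁ := by
      conv_lhs => rw [← hcK, mul_assoc,
        kIdem_right hON (card_ne_zero_of_pi hpπ (isPiNat_coreOf π _)), hcK]
    show e * kIdem (Res M) O = e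
    calc e * kIdem (Res M) O = idemS M B₁ * (e * kIdem (Res M) O) := by
          rw [← mul_assoc, hoc]
      _ = idemS M B₁ * (kIdem (Res M) O * e) := by
          rw [hmax.pair.blk.central.comm ((supportedIn_kIdem O).mono (Core.BG.piCoreOf_le _ _))]
      _ = e := by rw [← mul_assoc, hcO, hoc]
  obtain ⟨x, hx⟩ := exists_conj_le hmax (isBlk_idemG hpM hB) hob hQ hQo
  have h2 := (good_of_pairLE hpπ hx hgood).cj x⁻¹
  rwa [conjS_inv_conjS, cj_inv_cj] at h2

/-- The core of a subgroup containing the centraliser of a defect group of a local block is in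
the kernel of that block. -/
theorem core_mem_blockKer (hpM : (p : AlgInt) ∈ M) (hpπ : p ∈ π) {B : Set (IrrCharacter G)}
    (hB : IsPBlock M B) {D : Subgroup G} (hBD : IsDefectGroup p M B D)
    {B₁ : Set (IrrCharacter (Subgroup.normalizer (D : Set G)))}
    (hB₁ : IsInducedBlock M (Subgroup.normalizer (D : Set G)) B₁ B)
    (hB₁D : IsDefectGroup p M B₁ (D.subgroupOf (Subgroup.normalizer (D : Set G))))
    (hker : ∀ n : Subgroup.normalizer (D : Set G),
      n ∈ piCore {q | q ∉ π} (Subgroup.normalizer (D : Set G)) → n ∈ blockKer B₁)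
    {G₀ : Subgroup G} [Fintype G₀] {B₀ : Set (IrrCharacter G₀)}
    (hB₀ : IsInducedBlock M G₀ B₀ B) {D₀ : Subgroup G₀} (hD₀ : IsDefectGroup p M B₀ D₀)
    (hC : Subgroup.centralizer ((D₀.map G₀.subtype : Subgroup G) : Set G) ≤ G₀) :
    ∀ x : G₀, x ∈ piCore {q | q ∉ π} G₀ → x ∈ blockKer B₀ := by
  haveI := charP_res (p := p) hpM
  have hdef := (BlockChar.isDefectGroup_iff hpM G₀.subtype_injective hB₀.1 D₀).mp hD₀
  rw [Subgroup.range_subtype] at hdef
  set P := D₀.map G₀.subtype with hP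
  have hb : IsBlk G₀ (idemS M B₀) := isBlk_idemS hpM hB₀.1
  obtain ⟨e, he, ho⟩ := exists_pair_of_br_ne_zero hb hdef.le hdef.pgroup hC hdef.ne_zero
  have hob : OfBlock (idemG M B) P e :=
    (inducesIn_iff_ofBlock le_top he hdef.le hC hb ho (isBlk_idemG hpM hB)).mp
      ((isInducedBlock_iff hpM hB₀.1 hB).mp hB₀)
  have hgood := good_of_kernel hpM hpπ hB hBD hB₁ hB₁D hker he hob
  have h1 := le_of_occ hpπ hb (Core.BG.piCoreOf_le _ _) (Core.BG.le_normalizer_piCoreOf _ _)
    (isPiNat_coreOf π G₀) hC hdef.pgroup (hdef.le.trans (Core.BG.le_normalizer_piCoreOf _ _))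
    (hb.fixed.mono hdef.le) he.blk ho hgood
  intro x hx ξ hξ
  exact (mul_kIdem_iff hpM hB₀.1 (Core.BG.piCoreOf_le _ _) (Core.BG.le_normalizer_piCoreOf _ _)
    (not_dvd_coreOf hpπ G₀)).mp h1 ξ hξ x ⟨x, hx, rfl⟩

/-- The converse: one good local block with complemented core makes the correspondent good. -/
theorem core_mem_blockKer_of_local (hpM : (p : AlgInt) ∈ M) (hpπ : p ∈ π)
    {B : Set (IrrCharacter G)} (hB : IsPBlock M B) {D : Subgroup G}
    (hBD : IsDefectGroup p M B D) {B₁ : Set (IrrCharacter (Subgroup.normalizer (D : Set G)))}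
    (hB₁ : IsInducedBlock M (Subgroup.normalizer (D : Set G)) B₁ B)
    (hB₁D : IsDefectGroup p M B₁ (D.subgroupOf (Subgroup.normalizer (D : Set G))))
    {D₀ : Subgroup G} (hD₀ : IsPGroup p D₀) {H₀ : Subgroup G} [Fintype H₀]
    (hH₀ : H₀ = D₀ ⊔ Subgroup.centralizer (D₀ : Set G)) {b : Set (IrrCharacter H₀)}
    (hb : IsInducedBlock M H₀ b B) (hcompl : Hall π D₀)
    (hkerb : ∀ ξ ∈ b, ∀ h : H₀, (h : G) ∈ coreOf π (Subgroup.centralizer (D₀ : Set G)) →
      (ξ : H₀ → ℂ) h = (ξ : H₀ → ℂ) 1) :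
    ∀ n : Subgroup.normalizer (D : Set G),
      n ∈ piCore {q | q ∉ π} (Subgroup.normalizer (D : Set G)) → n ∈ blockKer B₁ := by
  haveI := charP_res (p := p) hpM
  set C := Subgroup.centralizer (D₀ : Set G) with hC
  have hDH : D₀ ≤ H₀ := hH₀ ▸ le_sup_left
  have hCH : C ≤ H₀ := hH₀ ▸ le_sup_right
  have hHN : H₀ ≤ Subgroup.normalizer (D₀ : Set G) :=
    hH₀ ▸ sup_le Subgroup.le_normalizer (centralizer_le_normalizer D₀)
  have hbb : IsBlk H₀ (idemS M b) := isBlk_idemS hpM hb.1
  have hbK : idemS M b * kIdem (Res M) (coreOf π C) = idemS M b :=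
    (mul_kIdem_iff hpM hb.1 ((Core.BG.piCoreOf_le _ _).trans hCH) (core_le_normalizer π hHN)
      (not_dvd_coreOf hpπ C)).mpr hkerb
  have hbr : br D₀ (idemS M b) = idemS M b := br_blk_eq_self hD₀ hDH hHN hbb
  obtain ⟨e0, he0, ho0⟩ := exists_pair_of_br_ne_zero hbb hDH hD₀ hCH (by
    rw [hbr]; exact hbb.ne_zero)
  have hob0 : OfBlock (idemG M B) D₀ e0 :=
    (inducesIn_iff_ofBlock le_top he0 hDH hCH hbb ho0 (isBlk_idemG hpM hB)).mp
      ((isInducedBlock_iff hpM hb.1 hB).mp hb)
  have hgood0 : Good π D₀ e0 := by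
    unfold OfBlock at ho0
    rw [hbr] at ho0
    show e0 * kIdem (Res M) (coreOf π C) = e0
    calc e0 * kIdem (Res M) (coreOf π C) = idemS M b * (e0 * kIdem (Res M) (coreOf π C)) := by
          rw [← mul_assoc, ho0]
      _ = idemS M b * (kIdem (Res M) (coreOf π C) * e0) := by
          rw [he0.blk.central.comm ((supportedIn_kIdem _).mono (Core.BG.piCoreOf_le _ _))]
      _ = e0 := by rw [← mul_assoc, hbK, ho0]
  obtain ⟨e, hmax, hob, hoc⟩ := exists_maxPair_normalizer hpM hB hBD hB₁ hB₁D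
  obtain ⟨x, hx⟩ := exists_conj_le hmax (isBlk_idemG hpM hB) hob he0 hob0
  have hup := up_of_pairLE hpπ hx (hcompl.cj x) (hgood0.cj x)
  have hc : IsBlk (Subgroup.normalizer (D : Set G)) (idemS M B₁) := isBlk_idemS hpM hB₁.1
  have h1 := le_of_occ hpπ hc (Core.BG.piCoreOf_le _ _) (Core.BG.le_normalizer_piCoreOf _ _)
    (isPiNat_coreOf π (Subgroup.normalizer (D : Set G))) (centralizer_le_normalizer D) hmax.pair.pgroup
    (Subgroup.le_normalizer.trans (Core.BG.le_normalizer_piCoreOf _ _))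
    (hc.fixed.mono Subgroup.le_normalizer) hmax.pair.blk hoc hup.2
  intro n hn ξ hξ
  exact (mul_kIdem_iff hpM hB₁.1 (Core.BG.piCoreOf_le _ _) (Core.BG.le_normalizer_piCoreOf _ _)
    (not_dvd_coreOf hpπ (Subgroup.normalizer (D : Set G)))).mp h1 ξ hξ n ⟨n, hn, rfl⟩

/-- Values at a section are constant on the core of the centraliser. -/
theorem apply_mul_eq (hpM : (p : AlgInt) ∈ M) (hpπ : p ∈ π) {B : Set (IrrCharacter G)}
    (hB : IsPBlock M B) {D : Subgroup G} (hBD : IsDefectGroup p M B D)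
    {B₁ : Set (IrrCharacter (Subgroup.normalizer (D : Set G)))}
    (hB₁ : IsInducedBlock M (Subgroup.normalizer (D : Set G)) B₁ B)
    (hB₁D : IsDefectGroup p M B₁ (D.subgroupOf (Subgroup.normalizer (D : Set G))))
    (hker : ∀ n : Subgroup.normalizer (D : Set G),
      n ∈ piCore {q | q ∉ π} (Subgroup.normalizer (D : Set G)) → n ∈ blockKer B₁)
    {y : G} (hy : ∃ k : ℕ, orderOf y = p ^ k) {H : Subgroup G} [Fintype H]
    (hH : H = Subgroup.centralizer ({y} : Set G)) (x : H) (hx : x ∈ piCore {q | q ∉ π} H)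
    (hxp : ¬ p ∣ orderOf x) {χ : IrrCharacter G} (hχ : χ ∈ B) :
    (χ : G → ℂ) (y * (x : G)) = (χ : G → ℂ) y := by
  classical
  haveI := charP_res (p := p) hpM
  have hyH : y ∈ H := hH ▸ Subgroup.mem_centralizer_singleton_iff.2 rfl
  have hYp : IsPGroup p (Subgroup.zpowers y) := by
    obtain ⟨k, hk⟩ := hy
    exact IsPGroup.of_card ((Nat.card_zpowers y).trans hk)
  have hHY : H ≤ Subgroup.centralizer (Subgroup.zpowers y : Set G) := fun g hg =>
    Subgroup.mem_centralizer_iff.2 (by
      rintro w ⟨j, rfl⟩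
      exact ((commute_sec hH ⟨g, hg⟩).zpow_left j).eq)
  suffices h : ∀ b ∈ blockFinset M H, secPart y b χ x = secPart y b χ 1 by
    have h1 := sum_sec_eq hH hy hpM χ (1 : H)
    rw [OneMemClass.coe_one, mul_one] at h1
    rw [← sum_sec_eq hH hy hpM χ x, ← h1]
    exact Finset.sum_congr rfl h
  intro b hb
  rw [mem_blockFinset] at hb
  obtain ⟨B', hB'⟩ := induced_defined_sec hH hy hpM hb
  by_cases hBB : χ ∈ B'
  · obtain rfl : B' = B := blocks_eq_of_inter hB'.2.1 hB hBB hχ
    have hYH : Subgroup.zpowers y ≤ H := Subgroup.zpowers_le.2 hyH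
    have hbb : IsBlk H (idemS M b) := isBlk_idemS hpM hb
    obtain ⟨D₀, hD₀, hle⟩ := exists_defectGroup_ge hpM hYH hYp hb (by
      rw [br_eq_self (hbb.supp.mono hHY)]; exact hbb.ne_zero)
    have hC : Subgroup.centralizer ((D₀.map H.subtype : Subgroup G) : Set G) ≤ H := by
      intro g hg
      rw [hH, Subgroup.mem_centralizer_singleton_iff]
      refine (Subgroup.mem_centralizer_iff.mp hg y ⟨⟨y, hyH⟩, hle ?_, rfl⟩).symm
      exact Subgroup.mem_subgroupOf.mpr (Subgroup.mem_zpowers y)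
    have hk := core_mem_blockKer hpM hpπ hB hBD hB₁ hB₁D hker hB' hD₀ hC x hx
    simp only [secPart, blockPart, finsum_mem_bf]
    exact Finset.sum_congr rfl fun φ hφ => by rw [hk φ (mem_bf.1 hφ)]
  · rw [secPart_eq_zero hH hy hpM hB' hBB hxp,
      secPart_eq_zero hH hy hpM hB' hBB (by rw [orderOf_one]; exact (Fact.out : p.Prime).not_dvd_one)]

end chars

end Cfsg.Agent.Blocks.PairKernel
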