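import Cfsg.Agent.Blocks.Nagao
import Cfsg.Agent.Blocks.DefectMore
import Cfsg.Agent.Chars.Induced
import Cfsg.Agent.BlockChar.RegKernel

/-!
Block parts of characters induced from normal subgroups.
-/

namespace Cfsg.Agent.Blocks

open Cfsg Cfsg.Agent

set_option linter.style.haveILetI false
set_option linter.unusedSectionVars false

universe u

variable {G : Type u} [Group G] [Fintype G] {p : ℕ} [Fact p.Prime] {M : Ideal AlgInt} [M.IsMaximal]

theorem mem_of_regular_mul {N : Subgroup G} [N.Normal] {k u : G} (hk : ¬ p ∣ orderOf k) {j : ℕ}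
    (hu : orderOf u = p ^ j) (h : k * u ∈ N) : u ∈ N := by
  rw [← QuotientGroup.eq_one_iff] at h ⊢
  rw [QuotientGroup.mk_mul] at h
  have h1 : orderOf (u : G ⧸ N) ∣ p ^ j := hu ▸ orderOf_map_dvd (QuotientGroup.mk' N) u
  have h2 : orderOf (u : G ⧸ N) ∣ orderOf k := by
    rw [eq_inv_of_mul_eq_one_right h, orderOf_inv]
    exact orderOf_map_dvd (QuotientGroup.mk' N) k
  have h3 : Nat.Coprime (p ^ j) (orderOf k) :=
    Nat.Coprime.pow_left j (((Fact.out : p.Prime).coprime_iff_not_dvd).2 hk)
  exact orderOf_eq_one_iff.1 (Nat.eq_one_of_dvd_coprimes h3 h1 h2)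

/-- The block part of a function induced from a normal subgroup vanishes at the `p`-elements
outside. -/
theorem blockPart_indFun_eq_zero (hpM : (p : AlgInt) ∈ M) {B : Set (IrrCharacter G)}
    (hB : IsPBlock M B) (N : Subgroup G) [hN : N.Normal] (f : N → ℂ) {u : G} {j : ℕ}
    (hu : orderOf u = p ^ j) (huN : u ∉ N) : blockPart B (indFun N f) u = 0 := by
  classical
  rw [blockPart_eq_sum B (Chars.isClassFunction_indFun N f)]
  refine Finset.sum_eq_zero fun k _ => ?_
  by_cases hk : p ∣ orderOf k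
  · rw [blockCoeff_eq_zero_of_dvd hpM hB hk, zero_mul]
  · rw [Chars.indFun_apply, Finset.sum_eq_zero, mul_zero, mul_zero]
    intro x _
    refine Chars.extendByZero_of_not_mem _ _ fun hm => huN (mem_of_regular_mul hk hu ?_)
    have := hN.conj_mem _ hm x
    simpa [mul_assoc] using this

theorem char_ppower_congr (hpM : (p : AlgInt) ∈ M) (χ : IrrCharacter G) {u : G} {j : ℕ}
    (hu : orderOf u = p ^ j) : MemLocalIdeal M ((χ : G → ℂ) u - (χ : G → ℂ) 1) := by
  have h := char_mul_congr hpM χ (Commute.one_right u) (k := j) (hu ▸ pow_orderOf_eq_one u)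
  rwa [mul_one] at h

/-- The degrees in the block part of an induced character add up to a multiple of `p`. -/
theorem dvd_sum_mult_degree (hpM : (p : AlgInt) ∈ M) {B : Set (IrrCharacter G)}
    (hB : IsPBlock M B) (N : Subgroup G) [hN : N.Normal] (f : N → ℂ) (c : IrrCharacter G → ℕ)
    (hc : ∀ χ : IrrCharacter G, classInner (indFun N f) (χ : G → ℂ) = (c χ : ℂ)) {u : G} {j : ℕ}
    (hu : orderOf u = p ^ j) (huN : u ∉ N) :
    p ∣ ∑ χ ∈ BlockChar.bf B, c χ * charDegree (χ : G → ℂ) := by
  classical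
  have h0 := blockPart_indFun_eq_zero hpM hB N f hu huN
  rw [blockPart, BlockChar.finsum_mem_bf] at h0
  simp only [Chars.classInner_congr_fintype (Fintype.ofFinite G) inferInstance, hc] at h0
  rw [← memI_natCast_iff (M := M) hpM]
  push_cast
  have h1 : MemLocalIdeal M (∑ χ ∈ BlockChar.bf B,
      (c χ : ℂ) * ((χ : G → ℂ) u - (χ : G → ℂ) 1)) :=
    memI_sum _ _ fun χ _ => memI_mul_left (memR_natCast _) (char_ppower_congr hpM χ hu)
  have h2 := memI_neg h1
  simp only [mul_sub, Finset.sum_sub_distrib, h0, zero_sub, neg_neg] at h2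
  simpa only [(charDegree_eq (Subtype.prop _)).1] using h2

end Cfsg.Agent.Blocks
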