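import Cfsg.Agent.Blocks.CyclicPerfect
import Cfsg.Agent.Blocks.PairKernel

/-!
Perfect isometries of blocks with cyclic defect groups with local blocks.
-/

namespace Cfsg.Agent.Blocks.CyclicApps

open Cfsg Cfsg.Agent Cfsg.Agent.BlockChar Cfsg.Agent.Blocks
open Cfsg.Agent.Blocks.CyclicShape Cfsg.Agent.Blocks.CyclicStructure
open scoped MonoidAlgebra ComplexConjugate

set_option autoImplicit false
set_option linter.unusedSectionVars false
set_option linter.style.haveILetI false

universe u

variable {G : Type u} [Group G] [Fintype G] {p : ℕ} [Fact p.Prime] {M : Ideal AlgInt}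
  [M.IsMaximal]

theorem stab_eq (hpM : (p : AlgInt) ∈ M) {P : Subgroup G}
    {c : Set (IrrCharacter (Subgroup.centralizer (P : Set G)))} (hc : IsPBlock M c)
    {T : Subgroup G} (hT : ∀ g : G, g ∈ T ↔ (g ∈ Subgroup.normalizer (P : Set G) ∧
      StabilizesBlock (Subgroup.centralizer (P : Set G)) c g)) : T = stab P (idemS M c) := by
  ext g
  rw [hT g, mem_stab, stabilizesBlock_iff hpM hc]
  exact ⟨fun h => ⟨h.1, h.2.2⟩,
    fun h => ⟨h.1, normalizer_le_normalizer_centralizer P h.1, h.2⟩⟩

theorem exists_induced (hpM : (p : AlgInt) ∈ M) {B : Set (IrrCharacter G)} {P : Subgroup G}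
    {e : (Res M)[G]} (D : MaxData p B P e) (hPC : P ≤ Subgroup.centralizer (P : Set G)) :
    ∃ d : Set (IrrCharacter (Subgroup.centralizer (P : Set G))),
      idemS M d = e ∧ IsInducedBlock M (Subgroup.centralizer (P : Set G)) d B := by
  haveI := charP_res (p := p) hpM
  obtain ⟨d, hd, hde⟩ := exists_idemS_eq hpM D.pmax.pair.blk
  refine ⟨d, hde, ?_⟩
  rw [isInducedBlock_iff hpM hd D.blk, hde]
  refine (inducesIn_iff_ofBlock le_top D.pmax.pair hPC le_rfl D.pmax.pair.blk ?_
    (isBlk_idemG hpM D.blk)).mpr D.ofB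
  show br P e * e = e
  rw [br_eq_self D.pmax.pair.blk.supp, D.pmax.pair.blk.idem]

/-- The block and its correspondent in a subgroup containing the stabiliser. -/
theorem local_isometry (hpM : (p : AlgInt) ∈ M) {B : Set (IrrCharacter G)} (hB : IsPBlock M B)
    {P : Subgroup G} (hPD : IsDefectGroup p M B P) (hcyc : IsCyclic P) (hP1 : P ≠ ⊥)
    {H : Subgroup G} [Fintype H] (hPH : P ≤ H) (hCH : Subgroup.centralizer (P : Set G) ≤ H)
    (hstab : ∀ d : Set (IrrCharacter (Subgroup.centralizer (P : Set G))),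
      IsInducedBlock M (Subgroup.centralizer (P : Set G)) d B → stab P (idemS M d) ≤ H)
    {c : Set (IrrCharacter H)} (hcD : IsDefectGroup p M c (P.subgroupOf H))
    (hc : IsInducedBlock M H c B) :
    blockRank p c = blockRank p B ∧ ∃ (I : IrrCharacter H → IrrCharacter G)
      (ε : IrrCharacter H → ℤ), IsPerfectIsometry p M c B I ε := by
  classical
  haveI := charP_res (p := p) hpM
  have hab := commute_of_cyclic hcyc
  have hPC : P ≤ Subgroup.centralizer (P : Set G) := fun x hx =>
    Subgroup.mem_centralizer_iff.mpr fun y hy => hab y hy x hx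
  have hbG := isBlk_idemG hpM hB
  have hcb : IsBlk H (idemS M c) := isBlk_idemS hpM hc.1
  have hd1 := (isDefectGroup_subgroupOf_iff hpM hPH hc.1).mp hcD
  obtain ⟨e, he, ho⟩ := exists_pair_of_br_ne_zero hcb hPH hd1.pgroup hCH hd1.ne_zero
  have hob : OfBlock (idemG M B) P e :=
    (inducesIn_iff_ofBlock le_top he hPH hCH hcb ho hbG).mp
      ((isInducedBlock_iff hpM hc.1 hB).mp hc)
  have hmax : IsMaxPair p P e :=
    isMaxPair_of_isDef hbG ((isDefectGroup_iff_idemG hpM hB P).mp hPD) he hob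
  obtain ⟨d, rfl, hd⟩ := exists_induced hpM ⟨hmax, hB, hob⟩ hPC
  obtain ⟨P', e', B', SP, D', -⟩ := exists_subPair hpM hmax hPH hCH
  obtain rfl : P' = P.subgroupOf H := Subgroup.map_injective H.subtype_injective (by
    rw [SP.map_eq, Subgroup.subgroupOf_map_subtype, inf_eq_left.mpr hPH])
  have hB'c : B' = c := by
    refine (idemG_inj hpM D'.blk hc.1).mp ((existsUnique_ofBlock (p := p) D'.pmax.pair).unique
      ⟨isBlk_idemG hpM D'.blk, D'.ofB⟩ ⟨isBlk_idemG hpM hc.1, ?_⟩)
    show br _ (idemG M c) * e' = e'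
    refine emb_injective (k := Res M) (H := H) ?_
    rw [map_mul, emb_br, emb_idemG, SP.map_eq, SP.emb_eq]
    exact ho
  subst hB'c
  have hPC' : P.subgroupOf H ≤ Subgroup.centralizer ((P.subgroupOf H : Subgroup H) : Set H) :=
    fun x hx => Subgroup.mem_centralizer_iff.mpr fun y hy =>
      Subtype.ext (hab _ (Subgroup.mem_subgroupOf.mp hy) _ (Subgroup.mem_subgroupOf.mp hx))
  obtain ⟨d', rfl, hd'⟩ := exists_induced hpM D' hPC'
  have hcyc' : IsCyclic (P.subgroupOf H) :=
    haveI := hcyc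
    (Subgroup.subgroupOfEquivOfLe hPH).isCyclic.mpr hcyc
  have hcard : Nat.card (P.subgroupOf H) = Nat.card P :=
    Nat.card_congr (Subgroup.subgroupOfEquivOfLe hPH).toEquiv
  have hP1' : P.subgroupOf H ≠ ⊥ := by
    intro h
    rw [h, Subgroup.card_bot] at hcard
    exact hP1 (Subgroup.eq_bot_of_card_eq P hcard.symm)
  have hidx : (Subgroup.centralizer ((P.subgroupOf H : Subgroup H) : Set H)).relIndex
      (stab (P.subgroupOf H) (idemS M d')) =
      (Subgroup.centralizer (P : Set G)).relIndex (stab P (idemS M d)) := by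
    have h1 : Subgroup.centralizer ((P.subgroupOf H : Subgroup H) : Set H) =
        (Subgroup.centralizer (P : Set G)).subgroupOf H := by
      refine Subgroup.map_injective H.subtype_injective ?_
      rw [map_centralizer, Subgroup.subgroupOf_map_subtype, Subgroup.subgroupOf_map_subtype,
        inf_eq_left.mpr hPH, inf_comm]
    have h2 : stab (P.subgroupOf H) (idemS M d') = (stab P (idemS M d)).subgroupOf H :=
      Subgroup.ext fun t => by rw [Subgroup.mem_subgroupOf]; exact SP.mem_stab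
    rw [h2, h1, Subgroup.relIndex_subgroupOf (hstab d hd)]
  haveI : NeZero (Nat.card P) := ⟨Nat.card_pos.ne'⟩
  obtain ⟨S⟩ := exists_shape hpM hPD hcyc hP1 hd rfl rfl
  obtain ⟨S'⟩ := exists_shape hpM hcD hcyc' hP1' hd' hcard hidx
  obtain ⟨I, ε, -, -, hI, -⟩ := CyclicPerfect.isometry hpM S S'
  refine ⟨?_, I, ε, hI⟩
  obtain ⟨a, ha⟩ := he.pgroup.exists_card_eq
  rw [(cyclic_structure hpM hPD hcyc hP1 ha hd (CyclicLocal.low_bound hpM hPD hcyc hP1 hd)).1,
    (cyclic_structure hpM hcD hcyc' hP1' (hcard.trans ha) hd'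
      (CyclicLocal.low_bound hpM hcD hcyc' hP1' hd')).1, hidx]

end Cfsg.Agent.Blocks.CyclicApps
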