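import Cfsg.Agent.Blocks.CyclicApps
import Cfsg.Agent.Chars2.PrincipalType

/-!
Groups with a self-centralizing normal cyclic Sylow subgroup.
-/

namespace Cfsg.Agent.Blocks.CyclicFrobenius

open Cfsg Cfsg.Agent Cfsg.Agent.BlockChar Cfsg.Agent.Blocks
open Cfsg.Agent.Blocks.CyclicShape Cfsg.Agent.Blocks.CyclicStructure
open scoped MonoidAlgebra ComplexConjugate

set_option autoImplicit false
set_option linter.unusedSectionVars false
set_option linter.style.haveILetI false

universe v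

variable {F : Type v} [Group F] [Fintype F] {p : ℕ} [Fact p.Prime] {M : Ideal AlgInt}
  [M.IsMaximal]

theorem normal_of_index {e : ℕ} {Q : Subgroup F} (hQ : IsPGroup p Q) (he : Q.index = e)
    (hep : e < p) : Q.Normal ∧ Subsingleton (Sylow p F) ∧ ∀ x : F, (∃ k, orderOf x = p ^ k) → x ∈ Q := by
  classical
  have he0 : 0 < e := he ▸ Nat.pos_of_ne_zero Subgroup.index_ne_zero_of_finite
  have hnd : ¬ p ∣ Q.index := fun h => by
    have := Nat.le_of_dvd he0 (he ▸ h); omega
  set S : Sylow p F := hQ.toSylow hnd with hS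
  have hSQ : (S : Subgroup F) = Q := rfl
  have h1 : Nat.card (Sylow p F) = 1 := by
    have h := Sylow.card_dvd_index S
    rw [hSQ, he] at h
    have hle := Nat.le_of_dvd he0 h
    have hmod := card_sylow_modEq_one p F
    rw [Nat.ModEq, Nat.mod_eq_of_lt (lt_of_le_of_lt hle hep),
      Nat.mod_eq_of_lt (Fact.out : p.Prime).one_lt] at hmod
    exact hmod
  haveI : Subsingleton (Sylow p F) := (Nat.card_eq_one_iff_unique.mp h1).1
  refine ⟨hSQ ▸ Sylow.normal_of_subsingleton S, this, fun x hx => ?_⟩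
  obtain ⟨T, hT⟩ := (isPGroup_zpowers_of hx).exists_le_sylow
  rw [← hSQ, Subsingleton.elim S T]
  exact hT (Subgroup.mem_zpowers x)

/-- The only block. -/
theorem single_block (hpM : (p : AlgInt) ∈ M) {Q : Subgroup F} [Q.Normal] (hQ : IsPGroup p Q)
    (hab : Q ≤ Subgroup.centralizer (Q : Set F))
    (hC : Subgroup.centralizer (Q : Set F) ≤ Q) (hS : ∀ S : Sylow p F, (S : Subgroup F) = Q) :
    IsPBlock M (Set.univ : Set (IrrCharacter F)) ∧
    IsDefectGroup p M (Set.univ : Set (IrrCharacter F)) Q ∧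
    ∃ c : Set (IrrCharacter (Subgroup.centralizer (Q : Set F))),
      IsInducedBlock M (Subgroup.centralizer (Q : Set F)) c (Set.univ : Set (IrrCharacter F)) ∧
      stab Q (idemS M c) = ⊤ := by
  classical
  haveI := charP_res (p := p) hpM
  haveI : Fintype (⊥ : Subgroup F) := Fintype.ofFinite _
  let θ : IrrCharacter (⊥ : Subgroup F) := ⟨_, Chars.isIrrCharacter_hom 1⟩
  have hinv : Chars2.inertiaSub (θ : (⊥ : Subgroup F) → ℂ) = ⊤ :=
    Chars2.inertiaSub_eq_top fun g n => by simp [θ]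
  obtain ⟨B, hB, hover, hsyl, hind⟩ := Chars2.principal_type hpM (⊥ : Subgroup F) Q Q
    (by rw [Subgroup.card_bot]; exact (Fact.out : p.Prime).not_dvd_one) bot_le le_rfl hQ
    (hQ.map _) le_sup_right hC θ hinv
  obtain rfl : B = Set.univ := Set.eq_univ_of_forall fun χ => (hover χ).mpr (by
    rw [Chars.classInner_def, Finset.sum_eq_single (1 : (⊥ : Subgroup F))
      (fun b _ hb => absurd (Subtype.ext (Subgroup.mem_bot.mp b.2)) hb)
      (fun h => absurd (Finset.mem_univ _) h), Subgroup.card_bot]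
    simpa [θ] using Chars.irr_apply_one_ne_zero χ.2)
  obtain ⟨S⟩ : Nonempty (Sylow p F) := inferInstance
  refine ⟨hB, hS S ▸ hsyl S, ?_⟩
  obtain ⟨c, hc, huniq⟩ := hind Q hQ
  refine ⟨c, hc, Subgroup.ext fun g => iff_of_true ?_ (Subgroup.mem_top g)⟩
  haveI : Fintype (Subgroup.centralizer (Q : Set F)) := Fintype.ofFinite _
  rw [mem_stab]
  have hgN : g ∈ Subgroup.normalizer (Q : Set F) := by
    rw [Subgroup.normalizer_eq_top]; exact Subgroup.mem_top g
  refine ⟨hgN, ?_⟩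
  have hblk : IsBlk (Subgroup.centralizer (Q : Set F)) (cj g (idemS M c)) := by
    have h := (isBlk_idemS hpM hc.1).cj g
    rwa [conjS_eq_self_of_mem_normalizer (normalizer_le_normalizer_centralizer Q hgN)] at h
  obtain ⟨c', hc', hcc'⟩ := exists_idemS_eq hpM hblk
  have hN : Subgroup.centralizer (Q : Set F) ≤ Subgroup.normalizer (Q : Set F) :=
    centralizer_le_normalizer Q
  obtain ⟨B', hB'⟩ := inducedBlockDefined_of_brauer (H := Subgroup.centralizer (Q : Set F)) hpM hQ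
    hab le_rfl hN hc'
  have hB'u : B' = Set.univ := by
    obtain ⟨χ, hχ⟩ := block_nonempty hB'.2.1
    exact blocks_eq_of_inter hB'.2.1 hB hχ (Set.mem_univ χ)
  rw [← hcc', huniq c' (hB'u ▸ hB')]

/-- A linear character is trivial on the subgroup if its complement acts freely. -/
theorem trivial_of_free {Q : Subgroup F} [Q.Normal] (hab : ∀ x ∈ Q, ∀ y ∈ Q, x * y = y * x)
    {t : F} (ht : ∀ x ∈ Q, x ≠ 1 → t * x * t⁻¹ ≠ x) (φ : F →* ℂˣ) {x : F} (hx : x ∈ Q) :
    φ x = 1 := by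
  classical
  set f : Q → Q := fun y => ⟨(y : F)⁻¹ * (t * y * t⁻¹),
    Q.mul_mem (Q.inv_mem y.2) (Subgroup.Normal.conj_mem inferInstance _ y.2 t)⟩ with hf
  have hinj : Function.Injective f := by
    intro a b h
    have h' : (a : F)⁻¹ * (t * a * t⁻¹) = (b : F)⁻¹ * (t * b * t⁻¹) := congrArg Subtype.val h
    by_contra hne
    refine ht ((b : F) * (a : F)⁻¹) (Q.mul_mem b.2 (Q.inv_mem a.2))
      (fun h1 => hne (Subtype.ext (mul_inv_eq_one.mp h1).symm)) ?_
    have hc : ∀ y ∈ Q, Commute ((a : F)⁻¹) y := fun y hy => hab _ (Q.inv_mem a.2) _ hy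
    have hta : t * (a : F) * t⁻¹ ∈ Q := Subgroup.Normal.conj_mem inferInstance _ a.2 t
    have htb : t * (b : F) * t⁻¹ ∈ Q := Subgroup.Normal.conj_mem inferInstance _ b.2 t
    calc t * ((b : F) * (a : F)⁻¹) * t⁻¹ = (t * b * t⁻¹) * (t * a * t⁻¹)⁻¹ := by group
      _ = (b * ((b : F)⁻¹ * (t * b * t⁻¹))) * (a * ((a : F)⁻¹ * (t * a * t⁻¹)))⁻¹ := by
          rw [mul_inv_cancel_left, mul_inv_cancel_left]
      _ = (b : F) * (a : F)⁻¹ := by
          rw [h', mul_inv_rev, mul_assoc, mul_inv_cancel_left]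
  obtain ⟨y, hy⟩ := (Finite.injective_iff_surjective.mp hinj) ⟨x, hx⟩
  rw [show x = (y : F)⁻¹ * (t * y * t⁻¹) from (congrArg Subtype.val hy).symm, map_mul, map_mul,
    map_mul, map_inv, map_inv, mul_comm (φ t) (φ (y : F)), mul_assoc (φ (y : F)), mul_inv_cancel,
    mul_one, inv_mul_cancel]

/-- Linear characters of the quotient. -/
theorem exists_linear_set {Q : Subgroup F} [Q.Normal] [IsCyclic (F ⧸ Q)] :
    ∃ K : Finset (IrrCharacter F), K.card = Q.index ∧ ∀ η ∈ K, ∃ φ : F →* ℂˣ,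
      (∀ g, (η : F → ℂ) g = φ g) ∧ ∀ x ∈ Q, φ x = 1 := by
  classical
  letI : CommGroup (F ⧸ Q) := IsCyclic.commGroup
  haveI : Fintype ((F ⧸ Q) →* ℂˣ) := Fintype.ofFinite _
  let j : ((F ⧸ Q) →* ℂˣ) → IrrCharacter F := fun φ =>
    ⟨_, Chars.isIrrCharacter_hom (φ.comp (QuotientGroup.mk' Q))⟩
  have hj : Function.Injective j := by
    intro a b h
    refine QuotientGroup.monoidHom_ext Q (MonoidHom.ext fun g => Units.ext ?_)
    exact congrFun (congrArg Subtype.val h) g
  refine ⟨Finset.univ.image j, ?_, fun η hη => ?_⟩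
  · rw [Finset.card_image_of_injective _ hj, Finset.card_univ, ← Nat.card_eq_fintype_card,
      CommGroup.card_monoidHom_of_hasEnoughRootsOfUnity (F ⧸ Q) ℂ, Subgroup.index_eq_card]
  · obtain ⟨φ, -, rfl⟩ := Finset.mem_image.mp hη
    refine ⟨φ.comp (QuotientGroup.mk' Q), fun g => rfl, fun x hx => ?_⟩
    rw [MonoidHom.comp_apply, QuotientGroup.mk'_apply, (QuotientGroup.eq_one_iff x).mpr hx,
      map_one]

end Cfsg.Agent.Blocks.CyclicFrobenius
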