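import Cfsg.Agent.Blocks.Brauer
import Cfsg.Agent.Core.Cores
import Mathlib.Algebra.MonoidAlgebra.Basic
import Mathlib.LinearAlgebra.FreeModule.Finite.Basic

/-!
Class sums missing the centraliser of a normal `p`-subgroup are nilpotent in characteristic `p`.
-/

namespace Cfsg.Agent.Blocks

open Cfsg

set_option linter.style.haveILetI false
set_option linter.unusedSectionVars false

variable {p : ℕ} [Fact p.Prime] {G : Type*} [Group G] [Fintype G]

theorem pCore_isNormal (p : ℕ) (G : Type*) [Group G] : (pCore p G).Normal := inferInstance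

theorem pCore_isPGroup (p : ℕ) (G : Type*) [Group G] : IsPGroup p (pCore p G) :=
  Core.isPGroup_pCore p G

open scoped Classical in
theorem isNilpotent_classSum {Q : Subgroup G} (hQn : Q.Normal) (hQ : IsPGroup p Q)
    (F : Type*) [Field F] [CharP F p] (g : G)
    (hg : ∀ x : G, IsConj g x → x ∉ Subgroup.centralizer (Q : Set G)) (z : MonoidAlgebra F G)
    (hz : z = ∑ x ∈ Finset.univ.filter (fun x => IsConj g x), MonoidAlgebra.single x (1 : F)) :
    IsNilpotent z := by
  let e : G → MonoidAlgebra F G := fun x => MonoidAlgebra.single x (1 : F)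
  have he : ∀ x y, e x * e y = e (x * y) := fun x y => by simp [e, MonoidAlgebra.single_mul_single]
  have he1 : e 1 = 1 := rfl
  have hcomm : ∀ y, e y * z = z * e y := fun y => by
    rw [hz, Finset.mul_sum, Finset.sum_mul]
    refine Finset.sum_equiv (MulAut.conj y).toEquiv (fun x => ?_) fun x _ => ?_
    · simp only [Finset.mem_filter, Finset.mem_univ, true_and, MulEquiv.toEquiv_eq_coe,
        EquivLike.coe_coe, MulAut.conj_apply]
      have h0 : IsConj x (y * x * y⁻¹) := isConj_iff.2 ⟨y, rfl⟩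
      exact ⟨fun h => h.trans h0, fun h => h.trans h0.symm⟩
    · show e y * e x = e (y * x * y⁻¹) * e y
      rw [he, he, inv_mul_cancel_right]
  haveI : Module.Finite F (MonoidAlgebra F G) := inferInstance
  let L : MonoidAlgebra F G →ₗ[F] MonoidAlgebra F G := LinearMap.mulLeft F z
  have hLn : ∀ n y, (L ^ n) y = z ^ n * y := fun n y => by
    rw [LinearMap.pow_mulLeft]; rfl
  let d : ℕ → ℕ := fun n => Module.finrank F (LinearMap.range (L ^ n))
  obtain ⟨N, hN⟩ : ∃ N, ∀ m, d N ≤ d m := by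
    let k := sInf (Set.range d)
    obtain ⟨N, hN⟩ := Nat.sInf_mem (s := Set.range d) ⟨d 0, 0, rfl⟩
    exact ⟨N, fun m => hN.trans_le (Nat.sInf_le ⟨m, rfl⟩)⟩
  set W := LinearMap.range (L ^ N) with hW
  have hstep : ∀ w ∈ W, z * w ∈ LinearMap.range (L ^ (N + 1)) := by
    rintro w ⟨y, rfl⟩
    exact ⟨y, by rw [hLn, hLn, pow_succ', mul_assoc]⟩
  have hsub : LinearMap.range (L ^ (N + 1)) ≤ W := by
    rintro w ⟨y, rfl⟩
    exact ⟨z * y, by rw [hLn, hLn, pow_succ, mul_assoc]⟩
  have heq : LinearMap.range (L ^ (N + 1)) = W := Submodule.eq_of_le_of_finrank_le hsub (hN _)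
  by_cases hbot : W = ⊥
  · refine ⟨N, ?_⟩
    have : (L ^ N) 1 ∈ (⊥ : Submodule F (MonoidAlgebra F G)) := hbot ▸ LinearMap.mem_range_self _ 1
    rwa [Submodule.mem_bot, hLn, mul_one] at this
  exfalso
  let Lw : W →ₗ[F] W := LinearMap.codRestrict W (L.comp W.subtype) fun w =>
    hsub (hstep w w.2)
  have hsurj : Function.Surjective Lw := by
    rintro ⟨w, hw⟩
    rw [← heq] at hw
    obtain ⟨y, rfl⟩ := hw
    exact ⟨⟨(L ^ N) y, LinearMap.mem_range_self _ y⟩, Subtype.ext
      (show z * (L ^ N) y = (L ^ (N + 1)) y by rw [hLn, hLn, pow_succ', mul_assoc])⟩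
  have hinj := LinearMap.injective_iff_surjective.2 hsurj
  obtain ⟨w0, hw0, hw0ne⟩ := (Submodule.ne_bot_iff W).1 hbot
  have hWst : ∀ x, ∀ w ∈ W, e x * w ∈ W := by
    rintro x w ⟨y, rfl⟩
    refine ⟨e x * y, ?_⟩
    rw [hLn, hLn, ← mul_assoc, ← mul_assoc, (Commute.pow_left (hcomm x).symm N).eq]
  letI : Algebra (ZMod p) F := ZMod.algebra F p
  let S : Submodule (ZMod p) (MonoidAlgebra F G) :=
    Submodule.span (ZMod p) (Set.range fun q : Q => e q * w0)
  haveI : Module.Finite (ZMod p) S := Module.Finite.span_of_finite _ (Set.finite_range _)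
  haveI : Finite S := Module.finite_of_finite (ZMod p)
  have hSW : ∀ v ∈ S, v ∈ W := fun v hv => by
    induction hv using Submodule.span_induction with
    | mem v hv => obtain ⟨q, rfl⟩ := hv; exact hWst _ _ hw0
    | zero => exact W.zero_mem
    | add a b _ _ ha hb => exact W.add_mem ha hb
    | smul c a _ ha => rw [← algebraMap_smul F c a]; exact W.smul_mem _ ha
  haveI : Nontrivial S :=
    ⟨⟨⟨w0, Submodule.subset_span ⟨1, by simp [he1]⟩⟩, 0, fun h => hw0ne (congrArg Subtype.val h)⟩⟩
  have hst : ∀ q : Q, ∀ v ∈ S, e q * v ∈ S := by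
    intro q v hv
    induction hv using Submodule.span_induction with
    | mem v hv =>
      obtain ⟨r, rfl⟩ := hv
      exact Submodule.subset_span ⟨q * r, by simp [← mul_assoc, he]⟩
    | zero => simp
    | add a b _ _ ha hb => rw [mul_add]; exact S.add_mem ha hb
    | smul c a _ ha => rw [mul_smul_comm]; exact S.smul_mem c ha
  letI : MulAction Q S :=
    { smul := fun q v => ⟨e q * v.1, hst q v.1 v.2⟩
      one_smul := fun v => Subtype.ext (show e ((1 : Q) : G) * v.1 = v.1 by simp [he1])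
      mul_smul := fun a b v => Subtype.ext (show e ((a * b : Q) : G) * v.1 = e a * (e b * v.1) by
        simp [← mul_assoc, he]) }
  have hcard : p ∣ Nat.card S := by
    rw [Module.natCard_eq_pow_finrank (K := ZMod p) (V := S), Nat.card_zmod]
    exact dvd_pow_self p Module.finrank_pos.ne'
  obtain ⟨v, hv, hne⟩ := hQ.exists_fixed_point_of_prime_dvd_card_of_fixed_point S hcard
    (a := 0) (fun q => Subtype.ext (show e (q : G) * 0 = 0 by simp))
  have hvQ : ∀ q : Q, e q * v.1 = v.1 := fun q => congrArg Subtype.val (hv q)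
  have hzv : z * v.1 = 0 := by
    have h1 : z * v.1 = ∑ x, if IsConj g x then e x * v.1 else 0 := by
      rw [hz, Finset.sum_mul, Finset.sum_filter]
    rw [h1, sum_eq_sum_centralizer Q hQ (fun a => by
      rw [← Nat.cast_smul_eq_nsmul F, CharP.cast_eq_zero, zero_smul]) _ fun q x => ?_]
    · exact Finset.sum_eq_zero fun x hx => if_neg fun h => hg x h (Finset.mem_filter.1 hx).2
    · have h0 : IsConj x ((q : G) * x * (q : G)⁻¹) := isConj_iff.2 ⟨q, rfl⟩
      refine if_congr ⟨fun h => h.trans h0.symm, fun h => h.trans h0⟩ ?_ rfl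
      have hm : x⁻¹ * (q : G) * x * (q : G)⁻¹ ∈ Q :=
        Q.mul_mem (by simpa using hQn.conj_mem q q.2 x⁻¹) (Q.inv_mem q.2)
      rw [show (q : G) * x * (q : G)⁻¹ = x * (x⁻¹ * (q : G) * x * (q : G)⁻¹) by group, ← he,
        mul_assoc]
      exact congrArg _ (hvQ ⟨_, hm⟩)
  apply hne
  refine Subtype.ext ?_
  have := hinj (a₁ := ⟨v.1, hSW _ v.2⟩) (a₂ := 0) (Subtype.ext (by
    show z * v.1 = _
    rw [hzv, map_zero]; rfl))
  exact (congrArg Subtype.val this).symm

end Cfsg.Agent.Blocks
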