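import Cfsg.Agent.Blocks.Covering
import Cfsg.Agent.S0938
import Cfsg.Agent.S4487
import Cfsg.Agent.Core.Cores
import Cfsg.Agent.Blocks.Basic
import Cfsg.Agent.Core.PiSeparable

/-! Inflation of blocks and the principal block of a `p`-solvable group. -/

set_option autoImplicit false
set_option linter.style.haveILetI false

namespace Cfsg.Agent.Blocks

open Cfsg Cfsg.Agent

universe u

variable {G : Type u} [Group G] [Fintype G] {p : ℕ} [Fact p.Prime] {M : Ideal AlgInt} [M.IsMaximal]

theorem centralChar_inflate (N : Subgroup G) [N.Normal] (g : G) :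
    ∃ r : ℕ, ∀ φ : G ⧸ N → ℂ, centralChar (φ ∘ QuotientGroup.mk) g =
      (r : ℂ) * centralChar φ (QuotientGroup.mk g) := by
  set C' := (Subgroup.centralizer ({(QuotientGroup.mk g : G ⧸ N)} : Set (G ⧸ N))).comap
    (QuotientGroup.mk' N) with hC'
  have hle : Subgroup.centralizer ({g} : Set G) ≤ C' := by
    intro x hx
    rw [hC', Subgroup.mem_comap, Subgroup.mem_centralizer_singleton_iff]
    have h := congrArg (QuotientGroup.mk' N) (Subgroup.mem_centralizer_singleton_iff.1 hx)
    rwa [map_mul, map_mul] at h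
  obtain ⟨r, hr⟩ := Subgroup.index_dvd_of_le hle
  refine ⟨r, fun φ => ?_⟩
  have hi : C'.index = (Subgroup.centralizer ({(QuotientGroup.mk g : G ⧸ N)} : Set (G ⧸ N))).index :=
    Subgroup.index_comap_of_surjective _ (QuotientGroup.mk'_surjective N)
  simp only [centralChar, Function.comp_apply, QuotientGroup.mk_one]
  rw [hr, hi, Nat.cast_mul]
  ring

theorem sameBlock_inflate (N : Subgroup G) [N.Normal] {φ ψ : G ⧸ N → ℂ} (h : SameBlock M φ ψ) :
    SameBlock M (φ ∘ QuotientGroup.mk) (ψ ∘ QuotientGroup.mk) := by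
  intro g
  obtain ⟨r, hr⟩ := centralChar_inflate N g
  rw [hr φ, hr ψ, ← mul_sub]
  exact memI_mul_left (memR_natCast r) (h _)

/-- The principal block of a `p`-solvable group consists of the characters trivial on `O_{p'}`. -/
theorem principalBlock_pSolvable (hpM : (p : AlgInt) ∈ M) (hsolv : IsPSolvable p G) :
    principalBlock M G =
      {χ : IrrCharacter G | ∀ n ∈ pPrimeCore p G, (χ : G → ℂ) n = (χ : G → ℂ) 1} := by
  classical
  have hp := (Fact.out : p.Prime)
  letI := Fintype.ofFinite (pPrimeCore p G)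
  have hnd : ¬ p ∣ Nat.card (pPrimeCore p G) :=
    hp.coprime_iff_not_dvd.1 (Core.card_pPrimeCore_coprime p G).symm
  ext χ
  refine ⟨fun hχ n hn => trivial_of_sameBlock hpM hnd (χ := oneChar G) hχ (fun _ => rfl) ⟨n, hn⟩,
    fun hχ => ?_⟩
  obtain ⟨χ', hχ'⟩ := exists_descend χ.2 (fun n hn => hχ n hn)
  haveI : Fintype (G ⧸ pPrimeCore p G) := Fintype.ofFinite _
  have h := Cfsg.Agent.S4487.result p M ⟨hp, inferInstance, hpM⟩
    (Core.pPrimeCore_quotient_pPrimeCore p G)
    (Core.centralizer_pCore_le (Core.isPSolvable_quotient hsolv _) (Core.pPrimeCore_quotient_pPrimeCore p G))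
    (oneChar (G ⧸ pPrimeCore p G)) χ'
  have h2 := sameBlock_inflate (M := M) (pPrimeCore p G) h
  rw [← hχ'] at h2
  exact h2

end Cfsg.Agent.Blocks
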