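import Cfsg.Agent.Chars2.KleinBlock

/-! The principal `2`-block with a four-group as Sylow subgroup: characters and signs. -/

set_option autoImplicit false
set_option linter.unusedSectionVars false
set_option linter.style.haveILetI false

namespace Cfsg.Agent.Blocks

open Cfsg Cfsg.Agent Cfsg.Agent.Chars2
open scoped ComplexConjugate

universe u

variable {G : Type u} [Group G] [Fintype G] {M : Ideal AlgInt} [M.IsMaximal]

theorem klein_data (h2M : ((2 : ℕ) : AlgInt) ∈ M) (P : Sylow 2 G) (hP : Nat.card P = 4)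
    (hexp : ∀ x : P, x * x = 1) (hone : ∀ s t : G, orderOf s = 2 → orderOf t = 2 → IsConj s t) :
    ∃ (S : Finset (IrrCharacter G)) (v : IrrCharacter G → ℤ),
      (∀ χ, χ ∈ S ↔ χ ∈ principalBlock M G) ∧ S.card = 4 ∧ oneChar G ∈ S ∧ v (oneChar G) = 1 ∧
      (∀ χ ∈ S, v χ = 1 ∨ v χ = -1) ∧
      (∀ χ : IrrCharacter G, ∀ z : G, orderOf z = 2 → (χ : G → ℂ) z = (v χ : ℂ)) ∧
      (∀ χ : IrrCharacter G, (4 : ℤ) ∣ (charDegree (χ : G → ℂ) : ℤ) - v χ) ∧
      (∀ y : G, ¬ 2 ∣ orderOf y → ∑ χ ∈ S, (v χ : ℂ) * (χ : G → ℂ) y = 0) := by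
  classical
  haveI : Fact (Nat.Prime 2) := ⟨Nat.prime_two⟩
  obtain ⟨⟨t, htP⟩, hto⟩ := exists_prime_orderOf_dvd_card' 2 (G := (P : Subgroup G)) (by rw [hP]; norm_num)
  rw [Subgroup.orderOf_mk] at hto
  have hexp' : ∀ x ∈ (P : Subgroup G), x * x = 1 := fun x hx => congrArg Subtype.val (hexp ⟨x, hx⟩)
  set C := Subgroup.centralizer ({t} : Set G) with hC
  letI : Fintype C := Fintype.ofFinite _
  have hPC : (P : Subgroup G) ≤ C := fun x hx => by
    rw [hC, Subgroup.mem_centralizer_singleton_iff]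
    have h1 := hexp' _ ((P : Subgroup G).mul_mem hx htP)
    calc x * t = x * (x * t * (x * t)) * t := by rw [h1]; group
      _ = (x * x) * t * x * (t * t) := by group
      _ = t * x := by rw [hexp' x hx, hexp' t htP]; group
  let Q : Sylow 2 C := P.subtype hPC
  have hQc : Nat.card Q = 4 := by
    rw [← hP]
    exact Nat.card_congr (Subgroup.subgroupOfEquivOfLe hPC).toEquiv
  have ht1 : t ≠ 1 := fun h => by rw [h, orderOf_one] at hto; norm_num at hto
  obtain ⟨N, hNn, hNodd, hNidx⟩ := exists_complement_of_central Q hQc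
    (fun x hx => Subtype.ext (hexp' _ hx)) ⟨t, hPC htP⟩ htP
    (fun h => ht1 (congrArg Subtype.val h))
    (fun g => Subtype.ext (Subgroup.mem_centralizer_singleton_iff.1 g.2))
  haveI := hNn
  letI : Fintype N := Fintype.ofFinite _
  set B := principalBlock M G with hB
  have hv : ∀ χ : IrrCharacter G, ∃ z : ℤ, (χ : G → ℂ) t = (z : ℂ) := fun χ =>
    int_value_involution χ (by rw [← hto, pow_orderOf_eq_one])
  choose v hv using hv
  set S := Finset.univ.filter (· ∈ B) with hS
  have hnorm : ∑ χ ∈ S, v χ * v χ = 4 := by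
    have h1 := norm_sum_principal (M := M) h2M (z := t) ⟨1, by rw [hto, pow_one]⟩ (y := 1)
      (by rw [orderOf_one]; norm_num)
    have h2 := (sum_sq_principal (M := M) (G := C) h2M hNodd hNidx (y := 1)
      (by rw [orderOf_one]; norm_num)).1
    rw [h2] at h1
    simp only [OneMemClass.coe_one, mul_one] at h1
    have h3 : ((∑ χ ∈ S, v χ * v χ : ℤ) : ℂ) = ((4 : ℤ) : ℂ) := by
      rw [Int.cast_sum]
      rw [Finset.sum_congr rfl fun χ _ => show ((v χ * v χ : ℤ) : ℂ) =
        (χ : G → ℂ) t * conj ((χ : G → ℂ) t) by rw [hv, Int.cast_mul, map_intCast]]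
      rw [h1]; norm_num
    exact_mod_cast h3
  have hidxodd : ¬ 2 ∣ C.index := by
    intro h
    have h1 := P.not_dvd_index
    exact h1 (h.trans (Subgroup.index_dvd_of_le hPC))
  have hne : ∀ χ ∈ S, v χ ≠ 0 := by
    intro χ hχ h0
    have h := (Finset.mem_filter.1 hχ).2 t
    rw [centralChar, centralChar, hv χ, h0, Int.cast_zero, mul_zero, zero_div, sub_zero, mul_one,
      div_one, memI_natCast_iff h2M] at h
    exact hidxodd h
  have hone1 : oneChar G ∈ S := Finset.mem_filter.2 ⟨Finset.mem_univ _, one_mem_principal⟩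
  have hv1 : v (oneChar G) = 1 := by
    have := hv (oneChar G)
    rw [coe_oneChar] at this
    simp only at this
    exact_mod_cast this.symm
  have hsq : ∀ χ ∈ S, v χ * v χ = 1 := by
    intro χ hχ
    by_contra hc
    have hpos : ∀ ψ ∈ S, 0 ≤ v ψ * v ψ := fun ψ _ => mul_self_nonneg _
    have hne1 : χ ≠ oneChar G := fun h => hc (by rw [h, hv1]; rfl)
    have h1 : v χ * v χ + v (oneChar G) * v (oneChar G) ≤ 4 := by
      rw [← hnorm, ← Finset.sum_pair (f := fun ψ => v ψ * v ψ) hne1]
      exact Finset.sum_le_sum_of_subset_of_nonneg (by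
        intro x hx; simp only [Finset.mem_insert, Finset.mem_singleton] at hx
        rcases hx with rfl | rfl
        exacts [hχ, hone1]) fun ψ hψ _ => hpos ψ hψ
    rw [hv1] at h1
    have h0 := hne χ hχ
    rcases le_or_gt (v χ) 0 with hs | hs
    · have : v χ = -1 ∨ v χ ≤ -2 := by omega
      rcases this with h | h
      · exact hc (by rw [h]; rfl)
      · nlinarith
    · have : v χ = 1 ∨ 2 ≤ v χ := by omega
      rcases this with h | h
      · exact hc (by rw [h]; rfl)
      · nlinarith
  have hcard : S.card = 4 := by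
    rw [Finset.sum_congr rfl hsq] at hnorm
    have h4 : ((S.card : ℕ) : ℤ) = 4 := by simpa using hnorm
    exact_mod_cast h4
  have hval : ∀ χ : IrrCharacter G, ∀ z : G, orderOf z = 2 → (χ : G → ℂ) z = (v χ : ℂ) :=
    fun χ z hz => by
      rw [← hv χ]
      exact isClassFunction_eq (Chars.isClassFunction_irr χ) (hone z t hz hto) |>.symm
  refine ⟨S, v, fun χ => by simp [hS, hB], hcard, hone1, hv1, fun χ hχ => ?_, hval, fun χ => ?_, fun y hy => ?_⟩
  · exact mul_self_eq_one_iff.1 (hsq χ hχ)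
  · letI : Fintype (P : Subgroup G) := Fintype.ofFinite _
    obtain ⟨m, hm⟩ := Chars.exists_classInner_eq_nat
      (Chars.isCharacter_restrict (Chars.irr_isCharacter χ) (P : Subgroup G))
      (Chars.isCharacter_of_isIrr (oneChar (P : Subgroup G)).2)
    have hsum : ∑ x : (P : Subgroup G), (χ : G → ℂ) x =
        ((charDegree (χ : G → ℂ) : ℤ) : ℂ) + 3 * (v χ : ℂ) := by
      rw [← Finset.add_sum_erase _ _ (Finset.mem_univ (1 : (P : Subgroup G))), OneMemClass.coe_one,
        (charDegree_eq χ.2).1, Finset.sum_congr (rfl : Finset.univ.erase (1 : (P : Subgroup G)) = _) (g := fun _ => (v χ : ℂ)) (fun x hx => hval χ x ?_),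
        Finset.sum_const, Finset.card_erase_of_mem (Finset.mem_univ _), Finset.card_univ,
        ← Nat.card_eq_fintype_card, hP]
      · simp [nsmul_eq_mul]
      · refine orderOf_eq_prime (by rw [pow_two]; exact hexp' _ x.2) fun h => ?_
        exact (Finset.mem_erase.1 hx).1 (Subtype.ext h)
    rw [Chars.classInner_def, hP] at hm
    simp only [coe_oneChar, map_one, mul_one] at hm
    rw [hsum, inv_mul_eq_iff_eq_mul₀ (by norm_num)] at hm
    have h4 : (charDegree (χ : G → ℂ) : ℤ) + 3 * v χ = 4 * (m : ℤ) := by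
      refine Int.cast_injective (α := ℂ) ?_
      push_cast
      simpa using hm
    exact ⟨(m : ℤ) - v χ, by omega⟩
  · have h := block_orth_weak (M := M) h2M isPBlock_principal hy (y := t) (by rw [hto])
    refine Eq.trans ?_ h
    exact Finset.sum_congr rfl fun χ _ => by rw [hv χ, map_intCast, mul_comm]

end Cfsg.Agent.Blocks
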