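import Cfsg.Agent.Blocks.Inflate
import Cfsg.Agent.Blocks.Height
import Cfsg.Agent.Chars.GaloisValues
import Cfsg.Agent.OddChar.GaloisAut

/-!
The principal block is stable under field automorphisms, and unchanged by the quotient by a normal
`p'`-subgroup.
-/

namespace Cfsg.Agent.Blocks

open Cfsg Cfsg.Agent
open scoped ComplexConjugate

set_option linter.style.haveILetI false
set_option linter.unusedSectionVars false

universe u

variable {G : Type u} [Group G] [Fintype G] {p : ℕ} [Fact p.Prime] {M : Ideal AlgInt} [M.IsMaximal]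

theorem principal_iff_omega_ne_zero (hpM : (p : AlgInt) ∈ M) (χ : IrrCharacter G) :
    χ ∈ principalBlock M G ↔
      omega (χ : G → ℂ) (regConj p ((oneChar G : IrrCharacter G) : G → ℂ)) ≠ 0 := by
  constructor
  · intro h
    exact ne_zero_of_not_memI (M := M) (not_memI_omega_regConj hpM isPBlock_principal
      one_mem_principal (blockHeight_oneChar _) h)
  · intro h
    by_contra hn
    refine h (omega_regConj_of_not_sameBlock hpM fun hs => hn ?_)
    exact mem_of_sameBlock isPBlock_principal one_mem_principal (sameBlock_symm hs)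

theorem principal_map (hpM : (p : AlgInt) ∈ M) (σ : ℂ ≃+* ℂ) {χ : IrrCharacter G}
    (h : χ ∈ principalBlock M G) :
    (⟨_, OddChar.isIrrCharacter_map σ χ.2⟩ : IrrCharacter G) ∈ principalBlock M G := by
  classical
  rw [principal_iff_omega_ne_zero hpM] at h ⊢
  intro h0
  apply h
  apply σ.injective
  rw [map_zero, ← h0]
  simp only [omega, map_div₀, map_sum, map_mul]
  congr 1
  refine Finset.sum_congr rfl fun g _ => ?_
  congr 1
  rw [regConj_apply, coe_oneChar]
  split_ifs <;> simp

theorem sum_normSq_principal_int (hpM : (p : AlgInt) ∈ M) (x : G)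
    [DecidablePred (· ∈ principalBlock M G)] :
    ∃ n : ℕ, 0 < n ∧ ∑ χ ∈ Finset.univ.filter (· ∈ principalBlock M G),
      Complex.normSq ((χ : G → ℂ) x) = n := by
  classical
  set S := Finset.univ.filter (· ∈ principalBlock M G) with hS
  set C : ℂ := ∑ χ ∈ S, (χ : G → ℂ) x * (χ : G → ℂ) x⁻¹ with hC
  have hCr : C = ((∑ χ ∈ S, Complex.normSq ((χ : G → ℂ) x) : ℝ) : ℂ) := by
    rw [hC, Complex.ofReal_sum]
    refine Finset.sum_congr rfl fun χ _ => ?_
    rw [Chars.char_inv_eq_conj (Chars.irr_isCharacter χ), Complex.mul_conj]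
  have hint : IsIntegral ℤ C := IsIntegral.sum _ fun χ _ => by
    obtain ⟨n, ρ, hρ⟩ := Chars.irr_isCharacter χ
    rw [← hρ]
    exact (Chars.rep_char_isIntegral ρ x).mul (Chars.rep_char_isIntegral ρ x⁻¹)
  have hfix : ∀ σ : ℂ ≃+* ℂ, σ C = C := by
    intro σ
    set F : IrrCharacter G → IrrCharacter G := fun χ => ⟨_, OddChar.isIrrCharacter_map σ χ.2⟩
      with hF
    have hFi : Function.Injective F := fun a b h => by
      apply Subtype.ext
      funext g
      exact σ.injective (congrFun (congrArg Subtype.val h) g)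
    have hFb : Function.Bijective F := Finite.injective_iff_bijective.1 hFi
    have hmem : ∀ χ, χ ∈ S → F χ ∈ S := fun χ hχ =>
      Finset.mem_filter.2 ⟨Finset.mem_univ _, principal_map hpM σ (Finset.mem_filter.1 hχ).2⟩
    have himg : S.image F = S := Finset.eq_of_subset_of_card_le
      (fun a ha => by obtain ⟨b, hb, rfl⟩ := Finset.mem_image.1 ha; exact hmem b hb)
      (by rw [Finset.card_image_of_injective _ hFi])
    rw [hC, map_sum]
    conv_rhs => rw [← himg, Finset.sum_image (fun a _ b _ h => hFi h)]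
    refine Finset.sum_congr rfl fun χ _ => ?_
    rw [map_mul]
  obtain ⟨z, hz⟩ := Chars.exists_int_of_fixed hint hfix
  rw [hCr, ← Complex.ofReal_intCast, Complex.ofReal_inj] at hz
  have h1 : (1 : ℝ) ≤ ∑ χ ∈ S, Complex.normSq ((χ : G → ℂ) x) := by
    refine le_trans ?_ (Finset.single_le_sum (fun χ _ => Complex.normSq_nonneg _)
      (Finset.mem_filter.2 ⟨Finset.mem_univ _, one_mem_principal⟩ : oneChar G ∈ S))
    simp [coe_oneChar]
  rw [hz] at h1
  have hz0 : (1 : ℤ) ≤ z := by exact_mod_cast h1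
  refine ⟨z.toNat, by omega, ?_⟩
  rw [hz]
  exact_mod_cast (Int.toNat_of_nonneg (by omega)).symm

variable (N : Subgroup G) [N.Normal]

/-- Sums over the principal block of a quotient by a normal `p'`-subgroup. -/
theorem sum_principal_quotient (hpM : (p : AlgInt) ∈ M) (hN : ¬ p ∣ Nat.card N)
    [Fintype (G ⧸ N)] [DecidablePred (· ∈ principalBlock M G)]
    [DecidablePred (· ∈ principalBlock M (G ⧸ N))] {R : Type*} [AddCommMonoid R]
    (f : (G → ℂ) → R) :
    ∑ χ ∈ Finset.univ.filter (· ∈ principalBlock M G), f (χ : G → ℂ) =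
      ∑ ψ ∈ Finset.univ.filter (· ∈ principalBlock M (G ⧸ N)),
        f ((ψ : G ⧸ N → ℂ) ∘ QuotientGroup.mk) := by
  classical
  haveI : Fintype N := Fintype.ofFinite N
  symm
  refine Finset.sum_bij (fun ψ _ => (⟨_, Chars.isIrrCharacter_comp_surjective ψ.2
    (QuotientGroup.mk' N) (QuotientGroup.mk'_surjective N)⟩ : IrrCharacter G)) ?_ ?_ ?_ ?_
  · intro ψ hψ
    refine Finset.mem_filter.2 ⟨Finset.mem_univ _, ?_⟩
    exact sameBlock_inflate (M := M) N (Finset.mem_filter.1 hψ).2
  · intro a _ b _ h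
    apply Subtype.ext
    funext q
    obtain ⟨g, rfl⟩ := QuotientGroup.mk'_surjective N q
    exact congrFun (congrArg Subtype.val h) g
  · intro χ hχ
    have htriv := trivial_of_sameBlock hpM hN (χ := oneChar G) (Finset.mem_filter.1 hχ).2
      (fun _ => rfl)
    obtain ⟨ψ, hψ⟩ := exists_descend (N := N) χ.2 (fun n hn => htriv ⟨n, hn⟩)
    refine ⟨ψ, Finset.mem_filter.2 ⟨Finset.mem_univ _, ?_⟩, Subtype.ext hψ.symm⟩
    refine sameBlock_descend hpM hN (χ := oneChar (G ⧸ N)) (ψ := ψ) ?_
    rw [← hψ]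
    exact (Finset.mem_filter.1 hχ).2
  · intro ψ _
    rfl

end Cfsg.Agent.Blocks
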