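import Cfsg.Agent.Blocks.RepType

/-!
Local algebras without a pencil are generated by one element.
-/

namespace Cfsg.Agent.Blocks.RepType

open Module

set_option autoImplicit false
set_option linter.unusedSectionVars false

variable {k A : Type*} [Field k] [Ring A] [Algebra k A]

/-- A local algebra without a pencil is generated by one element. -/
theorem principal_or_pencil [FiniteDimensional k A] (ε : A →ₐ[k] k) {N : ℕ}
    (hN : LinearMap.ker ε.toLinearMap ^ N = ⊥) :
    (∃ x : A, ε x = 0 ∧ IsNilpotent x ∧ Algebra.adjoin k {x} = ⊤) ∨ ∃ (δ₁ δ₂ : A →ₗ[k] k) (m₁ m₂ : A), IsDer ε δ₁ ∧ IsDer ε δ₂ ∧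
      ε m₁ = 0 ∧ ε m₂ = 0 ∧ δ₁ m₁ = 1 ∧ δ₁ m₂ = 0 ∧ δ₂ m₁ = 0 ∧ δ₂ m₂ = 1 := by
  classical
  set m := LinearMap.ker ε.toLinearMap with hm
  have hmem : ∀ x : A, x - ε x • 1 ∈ m := fun x => by
    simp [hm, LinearMap.mem_ker]
  have hker : ∀ x, x ∈ m ↔ ε x = 0 := fun x => Iff.rfl
  set pr : A →ₗ[k] (A ⧸ (m * m ⊔ k ∙ (1 : A))) := Submodule.mkQ _ with hpr
  by_cases hx : ∃ x : A, x ∈ m ∧ m ≤ k ∙ x ⊔ m * m
  · obtain ⟨x, hxm, hx⟩ := hx
    left
    set S := Subalgebra.toSubmodule (Algebra.adjoin k {x}) with hS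
    have hxS : x ∈ S := Algebra.self_mem_adjoin_singleton k x
    have key : ∀ j : ℕ, m ≤ (S ⊓ m) ⊔ m ^ (j + 1) := by
      intro j
      induction j with
      | zero => rw [Submodule.pow_one]; exact le_sup_right
      | succ j ih =>
        refine hx.trans (sup_le ((Submodule.span_singleton_le_iff_mem _ _).2
          (Submodule.mem_sup_left ⟨hxS, hxm⟩)) ?_)
        refine (mul_le_mul' ih le_rfl).trans ?_
        rw [Submodule.sup_mul]
        refine sup_le ((mul_le_mul' le_rfl ih).trans ?_) ?_
        · rw [Submodule.mul_sup]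
          refine sup_le (le_sup_of_le_left (Submodule.mul_le.2 fun y hy z hz => ⟨?_, ?_⟩))
            (le_sup_of_le_right ?_)
          · exact (Algebra.adjoin k {x}).mul_mem hy.1 hz.1
          · exact (hker _).2 (by rw [map_mul, (hker _).1 hy.2, zero_mul])
          · exact (mul_le_mul' inf_le_right le_rfl).trans (pow_succ' m (j + 1)).ge
        · exact le_sup_of_le_right (pow_succ m (j + 1)).ge
    have htop : ∀ y : A, y ∈ S := by
      intro y
      have h1 := key N (hmem y)
      rw [pow_succ, hN, Submodule.bot_mul, sup_bot_eq] at h1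
      rw [← sub_add_cancel y (ε y • 1)]
      exact S.add_mem h1.1 (S.smul_mem _ (Algebra.adjoin k {x}).one_mem)
    refine ⟨x, (hker x).1 hxm, ⟨N, ?_⟩, eq_top_iff.2 fun y _ => htop y⟩
    have h1 : x ^ N ∈ m ^ N := Submodule.pow_mem_pow m hxm N
    rw [hN] at h1
    exact (Submodule.mem_bot k).1 h1
  · right
    push Not at hx
    have hsq : m * m ≤ m := Submodule.mul_le.2 fun y hy z _ => (hker _).2 (by
      rw [map_mul, (hker _).1 hy, zero_mul])
    obtain ⟨m₁, hm₁, hm₁'⟩ := SetLike.not_le_iff_exists.1 (hx 0 m.zero_mem)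
    rw [Submodule.span_zero_singleton, bot_sup_eq] at hm₁'
    obtain ⟨m₂, hm₂, hm₂'⟩ := SetLike.not_le_iff_exists.1 (hx m₁ hm₁)
    have hli : LinearIndependent k ![(m * m ⊔ k ∙ (1 : A)).mkQ m₁, (m * m ⊔ k ∙ (1 : A)).mkQ m₂] := by
      rw [LinearIndependent.pair_iff]
      intro s t hst
      rw [← map_smul, ← map_smul, ← map_add, Submodule.mkQ_apply, Submodule.Quotient.mk_eq_zero,
        Submodule.mem_sup] at hst
      obtain ⟨w, hw, o, ho, he⟩ := hst
      obtain ⟨c, rfl⟩ := Submodule.mem_span_singleton.1 ho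
      have hc : c = 0 := by
        have := congrArg ε he
        simpa [(hker _).1 (hsq hw), (hker _).1 hm₁, (hker _).1 hm₂] using this
      subst hc
      rw [zero_smul, add_zero] at he
      have ht : t = 0 := by
        by_contra ht
        refine hm₂' ?_
        rw [Submodule.mem_sup]
        refine ⟨(-(t⁻¹ * s)) • m₁, Submodule.smul_mem _ _ (Submodule.mem_span_singleton_self _),
          t⁻¹ • w, Submodule.smul_mem _ _ hw, ?_⟩
        rw [he, smul_add, smul_smul, smul_smul, inv_mul_cancel₀ ht, one_smul, neg_smul]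
        abel
      subst ht
      rw [zero_smul, add_zero] at he
      refine ⟨?_, rfl⟩
      by_contra hs
      refine hm₁' ?_
      rw [show m₁ = s⁻¹ • w by rw [he, smul_smul, inv_mul_cancel₀ hs, one_smul]]
      exact Submodule.smul_mem _ _ hw
    obtain ⟨f, hf⟩ := LinearMap.exists_extend (p := Submodule.span k (Set.range _))
      ((Basis.span hli).equivFun.toLinearMap)
    set g : A →ₗ[k] Fin 2 → k := f.comp (m * m ⊔ k ∙ (1 : A)).mkQ with hg
    have hg0 : ∀ w ∈ m * m ⊔ k ∙ (1 : A), g w = 0 := fun w hw => by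
      simp [hg, (Submodule.Quotient.mk_eq_zero _).2 hw]
    have hder : ∀ i, IsDer ε ((LinearMap.proj i).comp g) := by
      intro i x y
      have h1 : x * y = (x - ε x • 1) * (y - ε y • 1) + ε x • (y - ε y • 1) +
          ε y • (x - ε x • 1) + (ε x * ε y) • 1 := by
        simp only [sub_mul, mul_sub, smul_mul_assoc, mul_smul_comm, one_mul, mul_one, smul_sub,
          smul_smul]
        rw [mul_comm (ε y) (ε x)]
        abel
      have h2 : g ((x - ε x • 1) * (y - ε y • 1)) = 0 :=
        hg0 _ (Submodule.mem_sup_left (Submodule.mul_mem_mul (hmem x) (hmem y)))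
      have h3 : g 1 = 0 := hg0 _ (Submodule.mem_sup_right (Submodule.mem_span_singleton_self _))
      simp only [LinearMap.comp_apply, LinearMap.proj_apply]
      rw [h1, map_add, map_add, map_add, h2, map_smul, map_smul, map_smul, map_sub, map_sub,
        map_smul, map_smul, h3]
      simp [mul_comm]
    have hval : ∀ j : Fin 2, g (![m₁, m₂] j) = Pi.single j 1 := by
      intro j
      have h1 : (m * m ⊔ k ∙ (1 : A)).mkQ (![m₁, m₂] j) = ((Basis.span hli) j : _) := by
        rw [Basis.span_apply]
        fin_cases j <;> rfl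
      show f _ = _
      rw [h1]
      have h2 := LinearMap.congr_fun hf ((Basis.span hli) j)
      refine Eq.trans h2 ?_
      funext i
      show (Basis.span hli).equivFun ((Basis.span hli) j) i = (Pi.single j 1 : Fin 2 → k) i
      rw [Basis.equivFun_apply, Basis.repr_self, Finsupp.single_eq_pi_single]
    refine ⟨(LinearMap.proj 0).comp g, (LinearMap.proj 1).comp g, m₁, m₂, hder 0, hder 1,
      (hker _).1 hm₁, (hker _).1 hm₂, ?_, ?_, ?_, ?_⟩
    all_goals
      simp only [LinearMap.comp_apply, LinearMap.proj_apply]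
      first
        | simpa using congrFun (hval 0) 0
        | simpa using congrFun (hval 1) 0
        | simpa using congrFun (hval 0) 1
        | simpa using congrFun (hval 1) 1

end Cfsg.Agent.Blocks.RepType
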