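import Cfsg.Agent.FGS2.BurnsideClass
import Cfsg.Agent.Blocks.Orth

/-! Characters of non-abelian simple groups. -/

set_option autoImplicit false
set_option linter.style.haveILetI false

namespace Cfsg.Agent.Blocks

open Cfsg Cfsg.Agent

universe u

variable {G : Type u} [Group G] [Finite G]

theorem eq_one_of_degree_one [IsSimpleGroup G] (hna : ∃ a b : G, a * b ≠ b * a) {χ : G → ℂ}
    (hχ : IsCharacter G χ) (h1 : χ 1 = 1) : χ = fun _ => 1 := by
  obtain ⟨φ, rfl⟩ := Chars.exists_hom_of_degree_one hχ h1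
  have hk : φ.ker = ⊤ := by
    rcases IsSimpleGroup.eq_bot_or_eq_top_of_normal φ.ker inferInstance with h | h
    · obtain ⟨a, b, hab⟩ := hna
      refine absurd ?_ hab
      exact (MonoidHom.ker_eq_bot_iff φ).1 h (by rw [map_mul, map_mul, mul_comm])
    · exact h
  funext x
  have : φ x = 1 := MonoidHom.mem_ker.1 (hk ▸ Subgroup.mem_top x)
  simp [this]

/-- Burnside: a nontrivial irreducible character vanishes at `g ≠ 1` when its degree is coprime
to the class size of `g`. -/
theorem eq_zero_of_coprime_class [IsSimpleGroup G] (hna : ∃ a b : G, a * b ≠ b * a)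
    (χ : IrrCharacter G) (hχ : (χ : G → ℂ) ≠ fun _ => 1) {g : G} (hg : g ≠ 1)
    (hcop : (charDegree (χ : G → ℂ)).Coprime (Subgroup.centralizer ({g} : Set G)).index) :
    (χ : G → ℂ) g = 0 := by
  classical
  have := Fintype.ofFinite G
  by_contra h0
  refine hχ ?_
  refine eq_one_of_degree_one hna (Chars.isCharacter_of_isIrr χ.2) ?_
  obtain ⟨n, ρ, hi, hχ'⟩ := χ.2
  have hfin : charDegree (χ : G → ℂ) = Module.finrank ℂ (Fin n → ℂ) := by
    simp [charDegree, ← hχ', Representation.char_one]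
  rw [← hχ'] at h0 ⊢
  rw [hfin] at hcop
  have hnorm := FGS2.norm_char_eq_of_coprime ρ g h0 hcop
  have hgS : g ∈ Chars2.scalarSub ρ := (Chars.rep_norm_char_eq_iff ρ g).1 hnorm
  rcases IsSimpleGroup.eq_bot_or_eq_top_of_normal (Chars2.scalarSub ρ) inferInstance with h | h
  · exact absurd (by rwa [h, Subgroup.mem_bot] at hgS) hg
  have hsc : ∀ x, ∃ c : ℂ, ρ x = c • 1 := fun x => (h ▸ Subgroup.mem_top x : x ∈ Chars2.scalarSub ρ)
  have hd : Module.finrank ℂ (Fin n → ℂ) = 1 :=
    Nat.dvd_one.1 (Subgroup.index_top (G := G) ▸ Chars2.finrank_dvd_index ρ ⊤ fun x _ => hsc x)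
  rw [Representation.char_one, hd, Nat.cast_one]

end Cfsg.Agent.Blocks
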